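import Mathlib

set_option autoImplicit false

namespace Cfsg.Agent.Lib.Helper21.SymSylow

open scoped commutatorElement

universe u v

/-- If `M` contains the commutator subgroup, the derived series of the ambient group is one
step behind that of `M`. -/
theorem derived_le_map {H : Type*} [Group H] (M : Subgroup H) (hM : commutator H ≤ M) (k : ℕ) :
    derivedSeries H (k + 1) ≤ (derivedSeries M k).map M.subtype := by
  induction k with
  | zero =>
    rw [zero_add, derivedSeries_one, derivedSeries_zero]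
    intro x hx
    exact ⟨⟨x, hM hx⟩, Subgroup.mem_top _, rfl⟩
  | succ k ih =>
    rw [derivedSeries_succ, derivedSeries_succ M, Subgroup.map_commutator]
    exact Subgroup.commutator_mono ih ih

/-- A proper subgroup of a finite `p`-group lies in a normal subgroup of index `p` containing
the commutator subgroup. -/
theorem exists_max_normal {H : Type*} [Group H] [Finite H] (p : ℕ) [Fact p.Prime]
    (hH : IsPGroup p H) (S : Subgroup H) (hS : S ≠ ⊤) :
    ∃ M : Subgroup H, S ≤ M ∧ M.index = p ∧ commutator H ≤ M := by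
  have hp := (Fact.out : p.Prime)
  obtain ⟨N, hN⟩ := hH.exists_card_eq
  obtain ⟨n, hn⟩ := (hH.to_subgroup S).exists_card_eq
  have hnN : n < N := by
    by_contra h
    apply hS
    rw [← Subgroup.card_eq_iff_eq_top]
    apply Nat.le_antisymm (Subgroup.card_le_card_group _)
    rw [hn, hN]
    exact Nat.pow_le_pow_right hp.pos (by omega)
  have hdvd : p ^ (N - 1) ∣ Nat.card H := by
    rw [hN]
    exact pow_dvd_pow p (Nat.sub_le N 1)
  obtain ⟨M, hM, hSM⟩ := Sylow.exists_subgroup_card_pow_prime_le p hdvd S hn (by omega)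
  have hpN : p ^ N = p ^ (N - 1) * p := by
    rw [← pow_succ]
    congr 1
    omega
  have hidx : M.index = p := by
    have h1 := Subgroup.card_mul_index M
    rw [hM, hN, hpN] at h1
    exact Nat.eq_of_mul_eq_mul_left (pow_pos hp.pos _) h1
  haveI hMn : M.Normal := by
    apply Subgroup.normal_of_index_eq_minFac_card
    rw [hidx, hN, Nat.Prime.pow_minFac hp (by omega)]
  refine ⟨M, hSM, hidx, ?_⟩
  have hcyc : IsCyclic (H ⧸ M) :=
    isCyclic_of_prime_card (p := p) (by rw [← Subgroup.index_eq_card]; exact hidx)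
  rw [commutator_def, Subgroup.commutator_le]
  intro a _ b _
  rw [← QuotientGroup.eq_one_iff, commutatorElement_def]
  have h1 := (IsCyclic.isMulCommutative (α := H ⧸ M)).is_comm.comm (a : H ⧸ M) (b : H ⧸ M)
  simp only [QuotientGroup.mk_mul, QuotientGroup.mk_inv]
  rw [h1]
  group

/-- A `p`-group acting on fewer than `p ^ (k + 1)` points: the `k`-th derived subgroup acts
trivially. -/
theorem derived_fix (p : ℕ) [Fact p.Prime] : ∀ (k : ℕ) (H : Type u) [Group H] [Finite H],
    IsPGroup p H → ∀ (α : Type v) [Finite α] [MulAction H α], Nat.card α < p ^ (k + 1) →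
    ∀ h ∈ derivedSeries H k, ∀ a : α, h • a = a := by
  have hp := (Fact.out : p.Prime)
  intro k
  induction k with
  | zero =>
    intro H _ _ hH α _ _ hα h _ a
    obtain ⟨N, hN⟩ := hH.exists_card_eq
    have h1 := Subgroup.card_mul_index (MulAction.stabilizer H a)
    rw [MulAction.index_stabilizer, ← Nat.card_coe_set_eq] at h1
    have h2 : Nat.card (MulAction.orbit H a) ∣ p ^ N := ⟨_, by rw [← hN, ← h1, mul_comm]⟩
    obtain ⟨j, hj, hj'⟩ := (Nat.dvd_prime_pow hp).1 h2
    have h3 : Nat.card (MulAction.orbit H a) ≤ Nat.card α := Finite.card_subtype_le _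
    have hj0 : j = 0 := by
      by_contra hne
      have h4 : p ^ 1 ≤ p ^ j := Nat.pow_le_pow_right hp.pos (by omega)
      rw [zero_add] at hα
      omega
    rw [hj0, pow_zero] at hj'
    haveI := (Nat.card_eq_one_iff_unique.1 hj').1
    have h5 : (⟨h • a, MulAction.mem_orbit a h⟩ : MulAction.orbit H a) =
        ⟨a, MulAction.mem_orbit_self a⟩ := Subsingleton.elim _ _
    exact congrArg Subtype.val h5
  | succ k ih =>
    intro H _ _ hH α _ _ hα h hh a
    by_cases hfix : ∀ g : H, g • a = a
    · exact hfix h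
    · have hS : MulAction.stabilizer H a ≠ ⊤ := by
        intro htop
        apply hfix
        intro g
        have : g ∈ MulAction.stabilizer H a := htop ▸ Subgroup.mem_top g
        exact this
      obtain ⟨M, hSM, hidx, hcomm⟩ := exists_max_normal p hH _ hS
      obtain ⟨m, hm, rfl⟩ := derived_le_map M hcomm k hh
      have hst : MulAction.stabilizer M a = (MulAction.stabilizer H a).subgroupOf M := by
        ext m
        simp [MulAction.mem_stabilizer_iff, Subgroup.mem_subgroupOf, Subgroup.smul_def]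
      have hcard : Nat.card (MulAction.orbit M a) * p = Nat.card (MulAction.orbit H a) := by
        rw [Nat.card_coe_set_eq, Nat.card_coe_set_eq, ← MulAction.index_stabilizer,
          ← MulAction.index_stabilizer, hst, ← hidx]
        exact Subgroup.relIndex_mul_index hSM
      have h3 : Nat.card (MulAction.orbit H a) ≤ Nat.card α := Finite.card_subtype_le _
      have hlt : Nat.card (MulAction.orbit M a) < p ^ (k + 1) := by
        have h4 : p ^ (k + 1 + 1) = p ^ (k + 1) * p := pow_succ _ _
        rw [h4] at hα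
        have h5 : Nat.card (MulAction.orbit M a) * p < p ^ (k + 1) * p := by omega
        exact Nat.lt_of_mul_lt_mul_right h5
      have key := ih ↥M (hH.to_subgroup M) (MulAction.orbit M a) hlt m hm
        ⟨a, MulAction.mem_orbit_self a⟩
      exact congrArg Subtype.val key

open RegularWreathProduct

/-- Evaluations at `1` of base-group elements of the `(j+1)`-st derived subgroup of a regular
wreath product. -/
def evSub (D Q : Type*) [Group D] [Group Q] (j : ℕ) : Subgroup D where
  carrier := {d | ∃ w ∈ derivedSeries (D ≀ᵣ Q) (j + 1), w.right = 1 ∧ w.left 1 = d}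
  one_mem' := ⟨1, one_mem _, rfl, rfl⟩
  mul_mem' := by
    rintro _ _ ⟨w₁, h₁, r₁, rfl⟩ ⟨w₂, h₂, r₂, rfl⟩
    refine ⟨w₁ * w₂, mul_mem h₁ h₂, ?_, ?_⟩
    · rw [RegularWreathProduct.mul_right, r₁, r₂, mul_one]
    · rw [RegularWreathProduct.mul_left]
      simp [r₁]
  inv_mem' := by
    rintro _ ⟨w, h, r, rfl⟩
    refine ⟨w⁻¹, inv_mem h, ?_, ?_⟩
    · rw [RegularWreathProduct.inv_right, r, inv_one]
    · rw [RegularWreathProduct.inv_left]
      simp [r]

theorem derived_le_evSub (D Q : Type*) [Group D] [Group Q] [Nontrivial Q] [DecidableEq Q]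
    (j : ℕ) : derivedSeries D j ≤ evSub D Q j := by
  induction j with
  | zero =>
    intro d _
    obtain ⟨q, hq⟩ := exists_ne (1 : Q)
    have hq' : q⁻¹ ≠ 1 := inv_ne_one.2 hq
    refine ⟨⁅(⟨Pi.mulSingle 1 d, 1⟩ : D ≀ᵣ Q), (inl q : D ≀ᵣ Q)⁆, ?_, ?_, ?_⟩
    · rw [zero_add, derivedSeries_one, commutator_def]
      exact Subgroup.commutator_mem_commutator (Subgroup.mem_top _) (Subgroup.mem_top _)
    · simp [commutatorElement_def]
    · simp [commutatorElement_def, RegularWreathProduct.mul_left, RegularWreathProduct.inv_left,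
        Pi.mulSingle_apply, hq']
  | succ j ih =>
    rw [derivedSeries_succ, Subgroup.commutator_le]
    intro d₁ h₁ d₂ h₂
    obtain ⟨w₁, hw₁, r₁, rfl⟩ := ih h₁
    obtain ⟨w₂, hw₂, r₂, rfl⟩ := ih h₂
    refine ⟨⁅w₁, w₂⁆, ?_, ?_, ?_⟩
    · rw [derivedSeries_succ]
      exact Subgroup.commutator_mem_commutator hw₁ hw₂
    · simp [commutatorElement_def, r₁, r₂]
    · simp [commutatorElement_def, RegularWreathProduct.mul_left, RegularWreathProduct.inv_left,
        r₁, r₂]

theorem wreath_dl (D Q : Type*) [Group D] [Group Q] [Nontrivial Q] (j : ℕ)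
    (h : derivedSeries D j ≠ ⊥) : derivedSeries (D ≀ᵣ Q) (j + 1) ≠ ⊥ := by
  classical
  obtain ⟨⟨d, hd⟩, hd1⟩ := Subgroup.ne_bot_iff_exists_ne_one.1 h
  obtain ⟨w, hw, r, hwd⟩ := derived_le_evSub D Q j hd
  intro hbot
  rw [hbot, Subgroup.mem_bot] at hw
  apply hd1
  apply Subtype.ext
  show d = 1
  rw [← hwd, hw]
  rfl

theorem wreath_top_ne (D Q : Type*) [Group D] [Group Q] [Nontrivial Q] :
    derivedSeries (D ≀ᵣ Q) 0 ≠ ⊥ := by
  rw [derivedSeries_zero]
  obtain ⟨q, hq⟩ := exists_ne (1 : Q)
  intro h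
  have h1 : (inl q : D ≀ᵣ Q) ∈ (⊥ : Subgroup (D ≀ᵣ Q)) := h ▸ Subgroup.mem_top _
  rw [Subgroup.mem_bot] at h1
  apply hq
  have h2 := congrArg RegularWreathProduct.right h1
  simpa using h2

theorem iter_dl (G : Type u) [Group G] [Nontrivial G] :
    ∀ k : ℕ, derivedSeries (IteratedWreathProduct G (k + 1)) k ≠ ⊥ := by
  intro k
  induction k with
  | zero => exact wreath_top_ne (IteratedWreathProduct G 0) G
  | succ k ih => exact wreath_dl (IteratedWreathProduct G (k + 1)) G k ih

end Cfsg.Agent.Lib.Helper21.SymSylow
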