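import Mathlib

set_option autoImplicit false

namespace Cfsg.Agent.Lib.Helper21.Higman

open scoped IsMulCommutative

/-- The norm trick: a group `L` with a normal subgroup `V`, all of whose elements outside `V` have
prime order `r`, with `|L| = |V| r`, acting on an abelian group with every nonidentity element
fixed-point-free, forces the exponent of the abelian group to divide `|V|`. -/
theorem fpf_trick {L : Type*} [Group L] [Finite L] {A : Type*} [Group A] [IsMulCommutative A]
    (φ : L →* MulAut A) (V : Subgroup L) [hVn : V.Normal] (hV : V ≠ ⊥) (y : L) (hy : y ∉ V)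
    (r : ℕ) (hr : r.Prime) (hexp : ∀ g : L, g ∉ V → g ^ r = 1)
    (hcard : Nat.card L = Nat.card V * r)
    (hfpf : ∀ g : L, g ≠ 1 → ∀ x : A, φ g x = x → x = 1) (x : A) : x ^ Nat.card V = 1 := by
  classical
  haveI : Fintype L := Fintype.ofFinite L
  haveI : Fact r.Prime := ⟨hr⟩
  have hy1 : y ≠ 1 := fun h => hy (h ▸ V.one_mem)
  have hφmul : ∀ a b : L, φ a (φ b x) = φ (a * b) x := by
    intro a b
    rw [map_mul]
    rfl
  have htot : ∏ g : L, φ g x = 1 := by
    apply hfpf y hy1
    rw [map_prod]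
    refine Fintype.prod_equiv (Equiv.mulLeft y) _ _ (fun g => ?_)
    rw [hφmul]
    rfl
  have hVprod : ∏ g ∈ Finset.univ.filter (· ∈ V), φ g x = 1 := by
    obtain ⟨⟨v₀, hv₀⟩, hv₀1⟩ := (Subgroup.ne_bot_iff_exists_ne_one).mp hV
    have hv₀' : v₀ ≠ 1 := fun h => hv₀1 (Subtype.ext h)
    apply hfpf v₀ hv₀'
    rw [map_prod]
    refine Finset.prod_equiv (Equiv.mulLeft v₀) (fun g => ?_) (fun g _ => ?_)
    · simp only [Finset.mem_filter, Finset.mem_univ, true_and, Equiv.coe_mulLeft]
      exact (V.mul_mem_cancel_left hv₀).symm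
    · rw [hφmul]
      rfl
  have hrest : ∏ g ∈ Finset.univ.filter (· ∉ V), φ g x = 1 := by
    have := Finset.prod_filter_mul_prod_filter_not Finset.univ (· ∈ V) (fun g => φ g x)
    rw [hVprod, one_mul, htot] at this
    exact this
  let π := QuotientGroup.mk' V
  have hπy : π y ≠ 1 := fun h => hy ((QuotientGroup.eq_one_iff y).mp h)
  have hπyr : (π y) ^ r = 1 := by rw [← map_pow, hexp y hy, map_one]
  have hord : orderOf (π y) = r := orderOf_eq_prime hπyr hπy
  have hπvy : ∀ v ∈ V, π (v * y) = π y := by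
    intro v hv
    have h1 : π v = 1 := (QuotientGroup.eq_one_iff v).mpr hv
    rw [map_mul, h1, one_mul]
  have hnotV : ∀ v ∈ V, ∀ j ∈ Finset.Ico 1 r, (v * y) ^ j ∉ V := by
    intro v hv j hj hmem
    have h1 : π ((v * y) ^ j) = 1 := (QuotientGroup.eq_one_iff _).mpr hmem
    rw [map_pow, hπvy v hv] at h1
    have h2 := orderOf_dvd_of_pow_eq_one h1
    rw [hord] at h2
    have hj' := Finset.mem_Ico.mp hj
    exact absurd (Nat.le_of_dvd (by omega) h2) (by omega)
  have hnorm : ∀ g : L, g ≠ 1 → g ^ r = 1 → ∏ j ∈ Finset.range r, φ (g ^ j) x = 1 := by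
    intro g hg1 hgr
    apply hfpf g hg1
    rw [map_prod]
    have e : ∀ j, φ g (φ (g ^ j) x) = φ (g ^ (j + 1)) x := by
      intro j
      rw [hφmul, pow_succ']
    simp_rw [e]
    have h1 := Finset.prod_range_succ' (fun j => φ (g ^ j) x) r
    have h2 := Finset.prod_range_succ (fun j => φ (g ^ j) x) r
    rw [h1] at h2
    simp only [pow_zero, hgr] at h2
    exact mul_right_cancel h2
  have hinner : ∀ v ∈ Finset.univ.filter (· ∈ V),
      ∏ j ∈ Finset.Ico 1 r, φ ((v * y) ^ j) x = x⁻¹ := by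
    intro v hv
    have hv : v ∈ V := (Finset.mem_filter.mp hv).2
    have hg : v * y ∉ V := fun h => hy ((V.mul_mem_cancel_left hv).mp h)
    have hg1 : v * y ≠ 1 := fun h => hg (h ▸ V.one_mem)
    have h1 := hnorm (v * y) hg1 (hexp _ hg)
    rw [Finset.range_eq_Ico, Finset.prod_eq_prod_Ico_succ_bot hr.pos] at h1
    simp only [pow_zero, map_one, MulAut.one_apply, zero_add] at h1
    exact eq_inv_of_mul_eq_one_right h1
  have hcV : (Finset.univ.filter (· ∈ V)).card = Nat.card V := by
    rw [Nat.card_eq_fintype_card, Fintype.card_subtype]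
  have hcnV : (Finset.univ.filter (· ∉ V)).card = Nat.card V * (r - 1) := by
    have h1 := Finset.card_filter_add_card_filter_not (s := (Finset.univ : Finset L)) (· ∈ V)
    rw [hcV, Finset.card_univ, ← Nat.card_eq_fintype_card, hcard] at h1
    have h2 : Nat.card V * r = Nat.card V + Nat.card V * (r - 1) := by
      have := hr.pos
      conv_lhs => rw [show r = 1 + (r - 1) by omega]
      ring
    omega
  let f : L × ℕ → L := fun z => (z.1 * y) ^ z.2
  have hinj : Set.InjOn f
      (((Finset.univ.filter (· ∈ V)) ×ˢ (Finset.Ico 1 r) : Finset (L × ℕ)) : Set (L × ℕ)) := by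
    rintro ⟨v, j⟩ hvj ⟨v', j'⟩ hvj' heq
    have hvj := Finset.mem_product.mp (Finset.mem_coe.mp hvj)
    have hvj' := Finset.mem_product.mp (Finset.mem_coe.mp hvj')
    have hv : v ∈ V := (Finset.mem_filter.mp hvj.1).2
    have hv' : v' ∈ V := (Finset.mem_filter.mp hvj'.1).2
    have hj := Finset.mem_Ico.mp hvj.2
    have hj' := Finset.mem_Ico.mp hvj'.2
    have heq' : (v * y) ^ j = (v' * y) ^ j' := heq
    have h1 : (π y) ^ j = (π y) ^ j' := by
      have := congrArg π heq'
      rwa [map_pow, map_pow, hπvy v hv, hπvy v' hv'] at this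
    have h2 : j ≡ j' [MOD r] := by
      rw [← hord]
      exact pow_eq_pow_iff_modEq.mp h1
    have hjj : j = j' := Nat.ModEq.eq_of_lt_of_lt h2 hj.2 hj'.2
    subst hjj
    have hg : v * y ∉ V := fun h => hy ((V.mul_mem_cancel_left hv).mp h)
    have hg' : v' * y ∉ V := fun h => hy ((V.mul_mem_cancel_left hv').mp h)
    have hcop : Nat.Coprime j r := by
      rw [Nat.coprime_comm, Nat.Prime.coprime_iff_not_dvd hr]
      intro hd
      exact absurd (Nat.le_of_dvd (by omega) hd) (by omega)
    obtain ⟨m, -, hm⟩ := Nat.exists_mul_mod_eq_one_of_coprime hcop hr.one_lt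
    have e1 : ∀ g : L, g ^ r = 1 → (g ^ j) ^ m = g := by
      intro g hg
      rw [← pow_mul, pow_eq_pow_mod _ hg, hm, pow_one]
    have h3 : v * y = v' * y := by
      rw [← e1 (v * y) (hexp _ hg), ← e1 (v' * y) (hexp _ hg'), heq']
    have h4 : v = v' := mul_right_cancel h3
    rw [h4]
  have himg : ((Finset.univ.filter (· ∈ V)) ×ˢ (Finset.Ico 1 r)).image f =
      Finset.univ.filter (· ∉ V) := by
    apply Finset.eq_of_subset_of_card_le
    · intro g hg
      obtain ⟨⟨v, j⟩, hvj, rfl⟩ := Finset.mem_image.mp hg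
      have hvj := Finset.mem_product.mp hvj
      have hv : v ∈ V := (Finset.mem_filter.mp hvj.1).2
      simp only [Finset.mem_filter, Finset.mem_univ, true_and]
      exact hnotV v hv j hvj.2
    · rw [Finset.card_image_of_injOn hinj, Finset.card_product, hcV, hcnV, Nat.card_Ico]
  have hreindex : ∏ g ∈ Finset.univ.filter (· ∉ V), φ g x =
      ∏ v ∈ Finset.univ.filter (· ∈ V), ∏ j ∈ Finset.Ico 1 r, φ ((v * y) ^ j) x := by
    rw [← himg, Finset.prod_image hinj]
    exact Finset.prod_product' _ _ (fun v j => φ ((v * y) ^ j) x)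
  rw [hreindex, Finset.prod_congr rfl hinner, Finset.prod_const, hcV, inv_pow, inv_eq_one] at hrest
  exact hrest

theorem not_isPrimePow_mul {a b : ℕ} (ha : 1 < a) (hb : 1 < b) (hab : Nat.Coprime a b) :
    ¬ IsPrimePow (a * b) := by
  intro h
  obtain ⟨p, k, hp, hk, hpk⟩ := (isPrimePow_nat_iff _).mp h
  have h1 : a ∣ p ^ k := hpk ▸ Dvd.intro _ rfl
  have h2 : b ∣ p ^ k := hpk ▸ Dvd.intro_left _ rfl
  obtain ⟨i, -, hi⟩ := (Nat.dvd_prime_pow hp).mp h1
  obtain ⟨j, -, hj⟩ := (Nat.dvd_prime_pow hp).mp h2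
  have hi0 : i ≠ 0 := by
    rintro rfl
    rw [pow_zero] at hi
    omega
  have hj0 : j ≠ 0 := by
    rintro rfl
    rw [pow_zero] at hj
    omega
  have hpa : p ∣ a := hi ▸ dvd_pow_self p hi0
  have hpb : p ∣ b := hj ▸ dvd_pow_self p hj0
  have := Nat.dvd_gcd hpa hpb
  rw [hab] at this
  exact hp.one_lt.ne' (Nat.dvd_one.mp this)

/-- In a group all of whose elements have prime power order, two commuting nonidentity elements
cannot have coprime orders. -/
theorem cp_commute_absurd {G : Type*} [Group G]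
    (hcp : ∀ g : G, g ≠ 1 → IsPrimePow (orderOf g)) {x y : G} (hc : Commute x y)
    (hx : 1 < orderOf x) (hy : 1 < orderOf y) (hcop : (orderOf x).Coprime (orderOf y)) : False := by
  have h1 : orderOf (x * y) = orderOf x * orderOf y := hc.orderOf_mul_eq_mul_orderOf_of_coprime hcop
  have h2 : x * y ≠ 1 := by
    intro h
    rw [h, orderOf_one] at h1
    nlinarith
  have h3 := hcp _ h2
  rw [h1] at h3
  exact not_isPrimePow_mul hx hy hcop h3

/-- the order of a nonidentity element of prime power order -/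
theorem cp_order {G : Type*} [Group G] {g : G} (_hg : g ≠ 1) (h : IsPrimePow (orderOf g)) :
    ∃ p k : ℕ, p.Prime ∧ 0 < k ∧ orderOf g = p ^ k := by
  obtain ⟨p, k, hp, hk, hpk⟩ := (isPrimePow_nat_iff _).mp h
  exact ⟨p, k, hp, hk, hpk.symm⟩

/-- An abelian group all of whose elements have prime power order is a `p`-group. -/
theorem exists_prime_isPGroup_of_comm {A : Type*} [Group A] [Nontrivial A]
    (hcomm : ∀ a b : A, a * b = b * a) (hcp : ∀ a : A, a ≠ 1 → IsPrimePow (orderOf a)) :
    ∃ p : ℕ, p.Prime ∧ IsPGroup p A ∧ ∃ a : A, orderOf a = p := by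
  obtain ⟨a, ha⟩ := exists_ne (1 : A)
  obtain ⟨t, k, ht, hk, hak⟩ := cp_order ha (hcp a ha)
  have ha' : orderOf (a ^ t ^ (k - 1)) = t := by
    rw [orderOf_pow_of_dvd (pow_ne_zero _ ht.ne_zero) (hak ▸ pow_dvd_pow t (Nat.sub_le k 1)), hak]
    have : t ^ k = t ^ (k - 1) * t := by
      rw [← pow_succ]; congr 1; omega
    rw [this, Nat.mul_div_cancel_left _ (pow_pos ht.pos _)]
  refine ⟨t, ht, ?_, a ^ t ^ (k - 1), ha'⟩
  intro b
  by_cases hb : b = 1
  · exact ⟨0, by rw [hb, one_pow]⟩
  obtain ⟨s, m, hs, hm, hbm⟩ := cp_order hb (hcp b hb)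
  by_cases hst : s = t
  · refine ⟨m, ?_⟩
    rw [← hst, ← hbm, pow_orderOf_eq_one]
  · exfalso
    have hb' : orderOf (b ^ s ^ (m - 1)) = s := by
      rw [orderOf_pow_of_dvd (pow_ne_zero _ hs.ne_zero) (hbm ▸ pow_dvd_pow s (Nat.sub_le m 1)), hbm]
      have : s ^ m = s ^ (m - 1) * s := by
        rw [← pow_succ]; congr 1; omega
      rw [this, Nat.mul_div_cancel_left _ (pow_pos hs.pos _)]
    refine cp_commute_absurd hcp (hcomm (a ^ t ^ (k - 1)) (b ^ s ^ (m - 1))) ?_ ?_ ?_
    · rw [ha']; exact ht.one_lt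
    · rw [hb']; exact hs.one_lt
    · rw [ha', hb']; exact (Nat.coprime_primes ht hs).mpr (Ne.symm hst)

/-- A nontrivial finite solvable group has a nontrivial abelian characteristic subgroup. -/
theorem exists_abelian_char {G : Type*} [Group G] [Nontrivial G] [hs : Group.IsSolvable G] :
    ∃ D : Subgroup G, D.Characteristic ∧ D ≠ ⊥ ∧ ∀ a ∈ D, ∀ b ∈ D, a * b = b * a := by
  classical
  obtain ⟨n, hn⟩ := hs.solvable
  have hex : ∃ n, derivedSeries G n = ⊥ := ⟨n, hn⟩
  have h0 : Nat.find hex ≠ 0 := by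
    intro h
    have := Nat.find_spec hex
    rw [h, derivedSeries_zero] at this
    exact top_ne_bot this
  obtain ⟨m, hm⟩ := Nat.exists_eq_succ_of_ne_zero h0
  refine ⟨derivedSeries G m, inferInstance, ?_, ?_⟩
  · intro h
    have := Nat.find_min hex (m := m) (by omega)
    exact this h
  · intro a ha b hb
    have h1 : derivedSeries G (m + 1) = ⊥ := by
      have := Nat.find_spec hex
      rwa [hm] at this
    rw [derivedSeries_succ] at h1
    have h2 : a * b * a⁻¹ * b⁻¹ ∈ ⁅derivedSeries G m, derivedSeries G m⁆ :=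
      Subgroup.commutator_mem_commutator ha hb
    rw [h1, Subgroup.mem_bot] at h2
    have h3 : a * b = b * a := by
      have : a * b * a⁻¹ * b⁻¹ * (b * a) = b * a := by rw [h2, one_mul]
      rw [← this]; group
    exact h3

/-- Key lemma: a solvable group with prime-power element orders and at least two prime divisors
cannot act on a nontrivial abelian group of coprime order with all nonidentity elements
fixed-point-free: the abelian group has exponent dividing the order of the acting group. -/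
theorem solvable_cp_fpf {K : Type*} [Group K] [Finite K] [hs : Group.IsSolvable K] {A : Type*}
    [Group A] [IsMulCommutative A]
    (φ : K →* MulAut A) (hfpf : ∀ k : K, k ≠ 1 → ∀ x : A, φ k x = x → x = 1)
    (hcp : ∀ k : K, k ≠ 1 → IsPrimePow (orderOf k))
    (q r : ℕ) (hq : q.Prime) (hr : r.Prime) (hqr : q ≠ r) (hqK : q ∣ Nat.card K)
    (hrK : r ∣ Nat.card K) (x : A) : x ^ Nat.card K = 1 := by
  classical
  haveI : Nontrivial K := by
    rw [← Finite.one_lt_card_iff_nontrivial]
    exact lt_of_lt_of_le hq.one_lt (Nat.le_of_dvd Nat.card_pos hqK)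
  obtain ⟨D, hDchar, hDne, hDcomm⟩ := exists_abelian_char (G := K)
  haveI := hDchar
  haveI hDn : D.Normal := Subgroup.normal_of_characteristic D
  haveI : Nontrivial D := (Subgroup.nontrivial_iff_ne_bot D).mpr hDne
  have hDcp : ∀ a : D, a ≠ 1 → IsPrimePow (orderOf a) := by
    intro a ha
    rw [← Subgroup.orderOf_coe]
    exact hcp _ (fun h => ha (Subtype.ext h))
  obtain ⟨t, ht, hDt, a₀, ha₀⟩ := exists_prime_isPGroup_of_comm (A := D)
    (fun a b => Subtype.ext (hDcomm a a.2 b b.2)) hDcp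
  haveI : Fact t.Prime := ⟨ht⟩
  let E : Subgroup K :=
    { carrier := {a | a ∈ D ∧ a ^ t = 1}
      mul_mem' := by
        rintro a b ⟨ha, ha'⟩ ⟨hb, hb'⟩
        refine ⟨D.mul_mem ha hb, ?_⟩
        have hc : Commute a b := hDcomm a ha b hb
        rw [hc.mul_pow, ha', hb', one_mul]
      one_mem' := ⟨D.one_mem, one_pow _⟩
      inv_mem' := by
        rintro a ⟨ha, ha'⟩
        exact ⟨D.inv_mem ha, by rw [inv_pow, ha', inv_one]⟩ }
  have hEmem : ∀ a : K, a ∈ E ↔ a ∈ D ∧ a ^ t = 1 := fun a => Iff.rfl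
  haveI hEn : E.Normal := ⟨by
    intro a ha g
    obtain ⟨ha1, ha2⟩ := (hEmem a).mp ha
    refine (hEmem _).mpr ⟨hDn.conj_mem a ha1 g, ?_⟩
    rw [conj_pow, ha2, mul_one, mul_inv_cancel]⟩
  have ha₀E : (a₀ : K) ∈ E := (hEmem _).mpr ⟨a₀.2, by
    have := pow_orderOf_eq_one a₀
    rw [ha₀] at this
    have h2 := congrArg Subtype.val this
    simpa using h2⟩
  have ha₀1 : (a₀ : K) ≠ 1 := by
    intro h
    have : a₀ = 1 := Subtype.ext h
    rw [this, orderOf_one] at ha₀
    exact ht.one_lt.ne ha₀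
  have hEne : E ≠ ⊥ := by
    intro h
    rw [h, Subgroup.mem_bot] at ha₀E
    exact ha₀1 ha₀E
  have hEexp : ∀ a : E, a ^ t = 1 := fun a => Subtype.ext ((hEmem _).mp a.2).2
  have hEpg : IsPGroup t E := fun a => ⟨1, by rw [pow_one]; exact hEexp a⟩
  obtain ⟨e, he⟩ := IsPGroup.iff_card.mp hEpg
  have he0 : e ≠ 0 := by
    rintro rfl
    rw [pow_zero] at he
    exact hEne (Subgroup.card_eq_one.mp he)
  have htK : t ∣ Nat.card K := by
    have h1 : Nat.card E ∣ Nat.card K := Subgroup.card_subgroup_dvd_card E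
    rw [he] at h1
    exact (dvd_pow_self t he0).trans h1
  suffices hxt : x ^ t = 1 by
    obtain ⟨c, hc⟩ := htK
    rw [hc, pow_mul, hxt, one_pow]
  by_cases he2 : 2 ≤ e
  · have hdvd : t ^ 2 ∣ Nat.card E := by rw [he]; exact pow_dvd_pow t he2
    obtain ⟨L₀, hL₀⟩ := Sylow.exists_subgroup_card_pow_prime t hdvd
    have hdvd' : t ^ 1 ∣ Nat.card L₀ := by rw [hL₀]; exact pow_dvd_pow t (by omega)
    obtain ⟨V₀, hV₀⟩ := Sylow.exists_subgroup_card_pow_prime t hdvd'
    rw [pow_one] at hV₀
    haveI : V₀.Normal := ⟨by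
      intro n hn g
      have : g * n * g⁻¹ = n := by
        have hc : (g : E) * (n : E) = (n : E) * (g : E) := by
          apply Subtype.ext
          exact hDcomm _ ((hEmem _).mp (g : E).2).1 _ ((hEmem _).mp (n : E).2).1
        have hc' : g * n = n * g := Subtype.ext hc
        rw [hc', mul_inv_cancel_right]
      rw [this]; exact hn⟩
    have hV₀ne : V₀ ≠ ⊥ := by
      intro h
      rw [h, Subgroup.card_bot] at hV₀
      exact ht.one_lt.ne hV₀
    have hex : ∃ y : L₀, y ∉ V₀ := by
      by_contra hcon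
      have : V₀ = ⊤ := by
        rw [Subgroup.eq_top_iff']
        intro y
        by_contra hy
        exact hcon ⟨y, hy⟩
      rw [this, Subgroup.card_top, hL₀] at hV₀
      have := ht.one_lt
      nlinarith
    obtain ⟨y, hy⟩ := hex
    have := fpf_trick (φ.comp (E.subtype.comp L₀.subtype)) V₀ hV₀ne y hy t ht
      (fun g _ => by
        apply Subtype.ext
        exact hEexp (g : E))
      (by rw [hL₀, hV₀]; ring)
      (fun g hg z hz => hfpf _ (fun h => hg (by
        apply Subtype.ext; apply Subtype.ext; exact h)) z hz) x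
    rwa [hV₀] at this
  · have he1 : e = 1 := by omega
    rw [he1, pow_one] at he
    obtain ⟨r₀, hr₀, hr₀t, hr₀K⟩ : ∃ r₀ : ℕ, r₀.Prime ∧ r₀ ≠ t ∧ r₀ ∣ Nat.card K := by
      by_cases h : q = t
      · exact ⟨r, hr, fun h' => hqr (h.trans h'.symm), hrK⟩
      · exact ⟨q, hq, h, hqK⟩
    haveI : Fact r₀.Prime := ⟨hr₀⟩
    obtain ⟨y₀, hy₀⟩ := exists_prime_orderOf_dvd_card' (G := K) r₀ hr₀K
    have hy₀E : y₀ ∉ E := by
      intro h
      have h1 : y₀ ^ t = 1 := ((hEmem _).mp h).2
      have h2 := orderOf_dvd_of_pow_eq_one h1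
      rw [hy₀] at h2
      exact hr₀t ((Nat.prime_dvd_prime_iff_eq hr₀ ht).mp h2)
    let π := QuotientGroup.mk' E
    have hπy : π y₀ ≠ 1 := fun h => hy₀E ((QuotientGroup.eq_one_iff y₀).mp h)
    have hπyr : (π y₀) ^ r₀ = 1 := by rw [← map_pow, ← hy₀, pow_orderOf_eq_one, map_one]
    have hord : orderOf (π y₀) = r₀ := orderOf_eq_prime hπyr hπy
    let L₁ : Subgroup K := (Subgroup.zpowers (π y₀)).comap π
    have hEL : E ≤ L₁ := by
      intro a ha
      show π a ∈ Subgroup.zpowers (π y₀)
      have h1 : π a = 1 := (QuotientGroup.eq_one_iff a).mpr ha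
      rw [h1]
      exact Subgroup.one_mem _
    have hy₀L : y₀ ∈ L₁ := Subgroup.mem_zpowers (π y₀)
    have hcardL : Nat.card L₁ = t * r₀ := by
      have h1 := Subgroup.card_mul_index L₁
      have h2 : L₁.index = (Subgroup.zpowers (π y₀)).index :=
        Subgroup.index_comap_of_surjective _ (QuotientGroup.mk'_surjective E)
      have h3 := Subgroup.card_mul_index (Subgroup.zpowers (π y₀))
      have h4 : Nat.card K = Nat.card (K ⧸ E) * Nat.card E :=
        Subgroup.card_eq_card_quotient_mul_card_subgroup E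
      rw [Nat.card_zpowers, hord] at h3
      rw [h2] at h1
      have hidx : 0 < (Subgroup.zpowers (π y₀)).index :=
        Nat.pos_of_ne_zero Subgroup.index_ne_zero_of_finite
      have : Nat.card L₁ * (Subgroup.zpowers (π y₀)).index =
          (t * r₀) * (Subgroup.zpowers (π y₀)).index := by
        rw [h1, h4, ← h3, he]; ring
      exact Nat.eq_of_mul_eq_mul_right hidx this
    let V₁ : Subgroup L₁ := E.subgroupOf L₁
    haveI : V₁.Normal := Subgroup.Normal.subgroupOf hEn L₁
    have hcardV : Nat.card V₁ = t := by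
      rw [← he]
      exact Nat.card_congr (Subgroup.subgroupOfEquivOfLe hEL).toEquiv
    have hV₁ne : V₁ ≠ ⊥ := by
      intro h
      rw [h, Subgroup.card_bot] at hcardV
      exact ht.one_lt.ne hcardV
    have hyV : (⟨y₀, hy₀L⟩ : L₁) ∉ V₁ := fun h => hy₀E (Subgroup.mem_subgroupOf.mp h)
    have hexp : ∀ g : L₁, g ∉ V₁ → g ^ r₀ = 1 := by
      intro g hg
      have hgE : (g : K) ∉ E := fun h => hg (Subgroup.mem_subgroupOf.mpr h)
      have hg1 : (g : K) ≠ 1 := fun h => hgE (h ▸ E.one_mem)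
      obtain ⟨i, hi⟩ := Subgroup.mem_zpowers_iff.mp (g.2 : π (g : K) ∈ Subgroup.zpowers (π y₀))
      have hπg : (π (g : K)) ^ r₀ = 1 := by
        rw [← hi, ← zpow_natCast, ← zpow_mul, mul_comm, zpow_mul, zpow_natCast, hπyr, one_zpow]
      have hπg1 : π (g : K) ≠ 1 := fun h => hgE ((QuotientGroup.eq_one_iff _).mp h)
      have hordg : orderOf (π (g : K)) = r₀ := orderOf_eq_prime hπg hπg1
      have hdvd : r₀ ∣ orderOf (g : K) := hordg ▸ orderOf_map_dvd π (g : K)
      obtain ⟨s, m, hs, hm, hsm⟩ := cp_order hg1 (hcp _ hg1)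
      have hsr : r₀ = s := by
        rw [hsm] at hdvd
        exact (Nat.prime_dvd_prime_iff_eq hr₀ hs).mp (hr₀.dvd_of_dvd_pow hdvd)
      have hgr : (g : K) ^ r₀ ∈ E := by
        apply (QuotientGroup.eq_one_iff _).mp
        show π ((g : K) ^ r₀) = 1
        rw [map_pow, hπg]
      have h1 : ((g : K) ^ r₀) ^ t = 1 := ((hEmem _).mp hgr).2
      have h2 : ((g : K) ^ r₀) ^ (r₀ ^ m) = 1 := by
        rw [← pow_mul, mul_comm, pow_mul, hsr, ← hsm, pow_orderOf_eq_one, one_pow]
      have h3 : orderOf ((g : K) ^ r₀) ∣ Nat.gcd t (r₀ ^ m) :=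
        Nat.dvd_gcd (orderOf_dvd_of_pow_eq_one h1) (orderOf_dvd_of_pow_eq_one h2)
      have h4 : Nat.gcd t (r₀ ^ m) = 1 :=
        Nat.Coprime.pow_right m ((Nat.coprime_primes ht hr₀).mpr (Ne.symm hr₀t))
      rw [h4] at h3
      apply Subtype.ext
      exact orderOf_eq_one_iff.mp (Nat.dvd_one.mp h3)
    have := fpf_trick (φ.comp L₁.subtype) V₁ hV₁ne ⟨y₀, hy₀L⟩ hyV r₀ hr₀ hexp
      (by rw [hcardL, hcardV])
      (fun g hg z hz => hfpf _ (fun h => hg (Subtype.ext h)) z hz) x
    rwa [hcardV] at this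

universe u

theorem higman_aux : ∀ (n : ℕ) (G : Type u) [Group G] [Finite G] [Group.IsSolvable G],
    Nat.card G = n → (∀ g : G, g ≠ 1 → IsPrimePow (orderOf g)) →
    (Nat.card G).primeFactors.card ≤ 2 := by
  intro n
  induction n using Nat.strong_induction_on with
  | _ n ih =>
    intro G _ _ _ hn hcp
    by_contra hgt
    have hgt : 3 ≤ (Nat.card G).primeFactors.card := by omega
    haveI : Nontrivial G := by
      rw [← Finite.one_lt_card_iff_nontrivial]
      by_contra h
      have h1 : Nat.card G = 1 := by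
        have := Nat.card_pos (α := G)
        omega
      rw [h1] at hgt
      simp at hgt
    obtain ⟨D, hDchar, hDne, hDcomm⟩ := exists_abelian_char (G := G)
    haveI := hDchar
    haveI hDn : D.Normal := Subgroup.normal_of_characteristic D
    haveI : Nontrivial D := (Subgroup.nontrivial_iff_ne_bot D).mpr hDne
    have hDcp : ∀ a : D, a ≠ 1 → IsPrimePow (orderOf a) := by
      intro a ha
      rw [← Subgroup.orderOf_coe]
      exact hcp _ (fun h => ha (Subtype.ext h))
    obtain ⟨t, ht, hDt, a₀, ha₀⟩ := exists_prime_isPGroup_of_comm (A := D)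
      (fun a b => Subtype.ext (hDcomm a a.2 b b.2)) hDcp
    haveI : Fact t.Prime := ⟨ht⟩
    obtain ⟨d, hd⟩ := IsPGroup.iff_card.mp hDt
    have hd0 : d ≠ 0 := by
      rintro rfl
      rw [pow_zero] at hd
      exact hDne (Subgroup.card_eq_one.mp hd)
    have hQcp : ∀ q : G ⧸ D, q ≠ 1 → IsPrimePow (orderOf q) := by
      intro q hq
      obtain ⟨g, rfl⟩ := QuotientGroup.mk_surjective q
      have hg1 : g ≠ 1 := fun h => hq (by rw [h]; rfl)
      obtain ⟨s, m, hs, hm, hsm⟩ := cp_order hg1 (hcp g hg1)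
      have hdvd : orderOf (QuotientGroup.mk' D g) ∣ orderOf g := orderOf_map_dvd _ g
      rw [hsm] at hdvd
      obtain ⟨i, hi, hio⟩ := (Nat.dvd_prime_pow hs).mp hdvd
      have hi0 : i ≠ 0 := by
        rintro rfl
        rw [pow_zero] at hio
        exact hq (orderOf_eq_one_iff.mp hio)
      rw [isPrimePow_nat_iff]
      exact ⟨s, i, hs, Nat.pos_of_ne_zero hi0, hio.symm⟩
    have hcard : Nat.card G = Nat.card (G ⧸ D) * Nat.card D :=
      Subgroup.card_eq_card_quotient_mul_card_subgroup D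
    have hQpos : 0 < Nat.card (G ⧸ D) := Nat.card_pos
    have hlt : Nat.card (G ⧸ D) < n := by
      rw [← hn, hcard, hd]
      have h1 : 1 < t ^ d := Nat.one_lt_pow hd0 ht.one_lt
      nlinarith
    have hQ := ih _ hlt (G ⧸ D) rfl hQcp
    have hPF : (Nat.card G).primeFactors = (Nat.card (G ⧸ D)).primeFactors ∪ {t} := by
      rw [hcard, Nat.primeFactors_mul hQpos.ne' Nat.card_pos.ne', hd,
        Nat.primeFactors_prime_pow hd0 ht]
    have htQ : t ∉ (Nat.card (G ⧸ D)).primeFactors := by
      intro h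
      have : (Nat.card (G ⧸ D)).primeFactors ∪ {t} = (Nat.card (G ⧸ D)).primeFactors := by
        rw [Finset.union_eq_left]
        exact Finset.singleton_subset_iff.mpr h
      rw [hPF, this] at hgt
      omega
    have hQ2 : (Nat.card (G ⧸ D)).primeFactors.card = 2 := by
      have h1 := Finset.card_union_le (Nat.card (G ⧸ D)).primeFactors {t}
      rw [← hPF, Finset.card_singleton] at h1
      omega
    have htnd : ¬ t ∣ Nat.card (G ⧸ D) := by
      intro h
      exact htQ (Nat.mem_primeFactors.mpr ⟨ht, h, hQpos.ne'⟩)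
    have hcopQ : Nat.Coprime (Nat.card (G ⧸ D)) t :=
      ((Nat.Prime.coprime_iff_not_dvd ht).mpr htnd).symm
    have hcop : Nat.Coprime (Nat.card D) D.index := by
      rw [hd, Subgroup.index_eq_card]
      exact Nat.Coprime.pow_left d ((Nat.Prime.coprime_iff_not_dvd ht).mpr htnd)
    obtain ⟨K, hK⟩ := Subgroup.exists_right_complement'_of_coprime hcop
    have hKcard : Nat.card K = Nat.card (G ⧸ D) := by
      have h1 := hK.card_mul_card
      rw [hcard, mul_comm] at h1
      exact Nat.eq_of_mul_eq_mul_right Nat.card_pos h1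
    obtain ⟨q, r, hqr, hPFQ⟩ := Finset.card_eq_two.mp hQ2
    have hq := Nat.mem_primeFactors.mp (show q ∈ (Nat.card (G ⧸ D)).primeFactors by rw [hPFQ]; simp)
    have hr := Nat.mem_primeFactors.mp (show r ∈ (Nat.card (G ⧸ D)).primeFactors by rw [hPFQ]; simp)
    haveI : IsMulCommutative D := ⟨⟨fun a b => Subtype.ext (hDcomm a a.2 b b.2)⟩⟩
    let φ : K →* MulAut D := (MulAut.conjNormal (H := D)).comp K.subtype
    have hfpf : ∀ k : K, k ≠ 1 → ∀ x : D, φ k x = x → x = 1 := by
      intro k hk x hx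
      by_contra hx1
      have hxk : (k : G) * (x : G) * (k : G)⁻¹ = (x : G) := by
        have := congrArg Subtype.val hx
        simpa [φ, MulAut.conjNormal_apply] using this
      have hc : Commute (k : G) (x : G) := by
        show (k : G) * x = x * k
        have : (k : G) * (x : G) = (k : G) * (x : G) * (k : G)⁻¹ * (k : G) := by group
        rw [this, hxk]
      have hox : orderOf (x : G) ∣ t ^ d := by
        rw [← hd, Subgroup.orderOf_coe]
        exact orderOf_dvd_natCard x
      have hok : orderOf (k : G) ∣ Nat.card (G ⧸ D) := by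
        rw [← hKcard, Subgroup.orderOf_coe]
        exact orderOf_dvd_natCard k
      have hcop' : (orderOf (k : G)).Coprime (orderOf (x : G)) :=
        Nat.Coprime.coprime_dvd_left hok
          (Nat.Coprime.coprime_dvd_right hox (Nat.Coprime.pow_right d hcopQ))
      have h1k : 1 < orderOf (k : G) := by
        have h0 : 0 < orderOf (k : G) := orderOf_pos _
        have h1 : orderOf (k : G) ≠ 1 := fun h => hk (Subtype.ext (orderOf_eq_one_iff.mp h))
        omega
      have h1x : 1 < orderOf (x : G) := by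
        have h0 : 0 < orderOf (x : G) := orderOf_pos _
        have h1 : orderOf (x : G) ≠ 1 := fun h => hx1 (Subtype.ext (orderOf_eq_one_iff.mp h))
        omega
      exact cp_commute_absurd hcp hc h1k h1x hcop'
    have hKcp : ∀ k : K, k ≠ 1 → IsPrimePow (orderOf k) := by
      intro k hk
      rw [← Subgroup.orderOf_coe]
      exact hcp _ (fun h => hk (Subtype.ext h))
    have key := fun x : D => solvable_cp_fpf φ hfpf hKcp q r hq.1 hr.1 hqr
      (hKcard ▸ hq.2.1) (hKcard ▸ hr.2.1) x
    apply hDne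
    rw [eq_bot_iff]
    intro x hx
    have h1 := key ⟨x, hx⟩
    have h2 : orderOf (⟨x, hx⟩ : D) ∣ Nat.card K := orderOf_dvd_of_pow_eq_one h1
    have h3 : orderOf (⟨x, hx⟩ : D) ∣ t ^ d := hd ▸ orderOf_dvd_natCard _
    have h4 : orderOf (⟨x, hx⟩ : D) ∣ 1 := by
      have := Nat.dvd_gcd h2 h3
      rwa [hKcard, Nat.Coprime.pow_right d hcopQ] at this
    rw [Subgroup.mem_bot]
    exact congrArg Subtype.val (orderOf_eq_one_iff.mp (Nat.dvd_one.mp h4))

/-- **Higman**: a finite solvable group all of whose elements have prime power order has order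
divisible by at most two primes. -/
theorem higman {G : Type u} [Group G] [Finite G] [Group.IsSolvable G]
    (hcp : ∀ g : G, g ≠ 1 → IsPrimePow (orderOf g)) : (Nat.card G).primeFactors.card ≤ 2 :=
  higman_aux _ G rfl hcp

end Cfsg.Agent.Lib.Helper21.Higman
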