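import Mathlib
import Cfsg.Agent.Lib.Helper9.Signalizer

/-!
# Kazarin's theorem: group-theoretic reduction

`PP p x` says that the conjugacy class of `x` has `p`-power size.  The theorem `kazarin` reduces
the solvability of the normal closure of such an element to a "core" statement (proved with
characters elsewhere) and to Burnside's `p^a q^b` theorem.
-/

set_option autoImplicit false

namespace Cfsg.Agent.Lib.Helper21.Kazarin

universe u

/-- The conjugacy class of `x` has `p`-power size. -/
def PP {G : Type u} [Group G] (p : ℕ) (x : G) : Prop :=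
  ∃ k : ℕ, (Subgroup.centralizer ({x} : Set G)).index = p ^ k

theorem pp_of_dvd {p : ℕ} (hp : p.Prime) {n k : ℕ} (h : n ∣ p ^ k) : ∃ j, n = p ^ j := by
  obtain ⟨j, -, hj⟩ := (Nat.dvd_prime_pow hp).1 h
  exact ⟨j, hj⟩

section basics

variable {G : Type u} [Group G]

theorem PP.map {H : Type u} [Group H] {p : ℕ} (hp : p.Prime) {x : G} (h : PP p x) (f : G →* H)
    (hf : Function.Surjective f) : PP p (f x) := by
  obtain ⟨k, hk⟩ := h
  have hle : Subgroup.centralizer ({x} : Set G) ≤
      (Subgroup.centralizer ({f x} : Set H)).comap f := by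
    intro g hg
    rw [Subgroup.mem_comap, Subgroup.mem_centralizer_singleton_iff]
    rw [Subgroup.mem_centralizer_singleton_iff] at hg
    rw [← map_mul, ← map_mul, hg]
  have h1 := Subgroup.index_dvd_of_le hle
  rw [Subgroup.index_comap_of_surjective _ hf, hk] at h1
  exact pp_of_dvd hp h1

theorem PP.pow {p : ℕ} (hp : p.Prime) {x : G} (h : PP p x) (n : ℕ) : PP p (x ^ n) := by
  obtain ⟨k, hk⟩ := h
  have hle : Subgroup.centralizer ({x} : Set G) ≤ Subgroup.centralizer ({x ^ n} : Set G) := by
    intro g hg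
    rw [Subgroup.mem_centralizer_singleton_iff] at hg ⊢
    exact (Commute.pow_right (show Commute g x from hg) n).eq
  have h1 := Subgroup.index_dvd_of_le hle
  rw [hk] at h1
  exact pp_of_dvd hp h1

theorem PP.conj {p : ℕ} (hp : p.Prime) {x : G} (h : PP p x) (g : G) : PP p (g * x * g⁻¹) := by
  have := h.map hp (MulAut.conj g).toMonoidHom (MulAut.conj g).surjective
  simpa using this

theorem relIndex_dvd_of_normal [Finite G] (C N : Subgroup G) [N.Normal] :
    C.relIndex N ∣ C.index := by
  have e1 : C.relIndex (C ⊔ N) * (C ⊔ N).index = C.index := Subgroup.relIndex_mul_index le_sup_left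
  have e2 : N.relIndex (C ⊔ N) * (C ⊔ N).index = N.index :=
    Subgroup.relIndex_mul_index le_sup_right
  have e3 : N.relIndex (C ⊔ N) = N.relIndex C := Subgroup.relIndex_sup_right C N
  have e4 : (C ⊓ N).relIndex C * C.index = (C ⊓ N).index :=
    Subgroup.relIndex_mul_index inf_le_left
  have e5 : (C ⊓ N).relIndex N * N.index = (C ⊓ N).index :=
    Subgroup.relIndex_mul_index inf_le_right
  have e6 : (C ⊓ N).relIndex C = N.relIndex C := Subgroup.inf_relIndex_left C N
  have e7 : (C ⊓ N).relIndex N = C.relIndex N := Subgroup.inf_relIndex_right C N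
  rw [e6] at e4
  rw [e7] at e5
  rw [e3] at e2
  have hpos1 : 0 < N.relIndex C := by
    apply Nat.pos_of_ne_zero
    show (N.subgroupOf C).index ≠ 0
    exact Subgroup.index_ne_zero_of_finite
  have hpos2 : 0 < (C ⊔ N).index := Nat.pos_of_ne_zero Subgroup.index_ne_zero_of_finite
  have key : (N.relIndex C * (C ⊔ N).index) * C.relIndex N =
      (N.relIndex C * (C ⊔ N).index) * C.relIndex (C ⊔ N) := by
    calc (N.relIndex C * (C ⊔ N).index) * C.relIndex N = C.relIndex N * N.index := by
          rw [e2, mul_comm]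
      _ = N.relIndex C * C.index := by rw [e5, e4]
      _ = (N.relIndex C * (C ⊔ N).index) * C.relIndex (C ⊔ N) := by rw [← e1]; ring
  have h2 : C.relIndex N = C.relIndex (C ⊔ N) :=
    Nat.eq_of_mul_eq_mul_left (Nat.mul_pos hpos1 hpos2) key
  rw [h2]
  exact Dvd.intro _ e1

theorem PP.subgroup [Finite G] {p : ℕ} (hp : p.Prime) {x : G} (h : PP p x) (N : Subgroup G)
    [N.Normal] (hx : x ∈ N) : PP p (⟨x, hx⟩ : N) := by
  obtain ⟨k, hk⟩ := h
  have e : Subgroup.centralizer ({(⟨x, hx⟩ : N)} : Set N) =
      (Subgroup.centralizer ({x} : Set G)).subgroupOf N := by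
    ext g
    rw [Subgroup.mem_centralizer_singleton_iff, Subgroup.mem_subgroupOf,
      Subgroup.mem_centralizer_singleton_iff, Subtype.ext_iff]
    rfl
  have h1 : (Subgroup.centralizer ({(⟨x, hx⟩ : N)} : Set N)).index ∣ p ^ k := by
    rw [e, ← hk]
    exact relIndex_dvd_of_normal _ N
  exact pp_of_dvd hp h1

theorem solvable_of_normal_quot (M : Subgroup G) [M.Normal] (h1 : Group.IsSolvable M)
    (h2 : Group.IsSolvable (G ⧸ M)) : Group.IsSolvable G :=
  Group.isSolvable_of_ker_le_range M.subtype (QuotientGroup.mk' M) (by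
    rw [QuotientGroup.ker_mk', Subgroup.range_subtype])

theorem solvable_of_top (h : Group.IsSolvable (⊤ : Subgroup G)) : Group.IsSolvable G :=
  Group.isSolvable_of_surjective (f := (Subgroup.topEquiv : (⊤ : Subgroup G) ≃* G).toMonoidHom)
    (Subgroup.topEquiv : (⊤ : Subgroup G) ≃* G).surjective

theorem solvable_top (h : Group.IsSolvable G) : Group.IsSolvable (⊤ : Subgroup G) :=
  Group.isSolvable_of_isSolvable_injective
    (f := (Subgroup.topEquiv : (⊤ : Subgroup G) ≃* G).toMonoidHom)
    (Subgroup.topEquiv : (⊤ : Subgroup G) ≃* G).injective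

theorem exists_radical (H : Type u) [Group H] [Finite H] :
    ∃ R : Subgroup H, R.Normal ∧ Group.IsSolvable R ∧
      ∀ W : Subgroup H, W.Normal → Group.IsSolvable W → W ≤ R := by
  classical
  have hfin : ({R : Subgroup H | R.Normal ∧ Group.IsSolvable R}).Finite := Set.toFinite _
  have hne : ({R : Subgroup H | R.Normal ∧ Group.IsSolvable R}).Nonempty :=
    ⟨⊥, Subgroup.normal_bot, inferInstance⟩
  obtain ⟨R, hRS, hmax⟩ := Set.exists_max_image _ (fun R : Subgroup H => Nat.card R) hfin hne
  refine ⟨R, hRS.1, hRS.2, fun W hWn hWs => ?_⟩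
  haveI := hRS.1
  haveI := hWn
  have hsup : Group.IsSolvable ↥(R ⊔ W) :=
    Cfsg.Agent.Lib.Helper9.isSolvable_sup_of_le_normalizer (X := R) (Y := W)
      (by rw [Subgroup.normalizer_eq_top_iff.2 hRS.1]; exact le_top) hRS.2 hWs
  have hn : (R ⊔ W).Normal := inferInstance
  have hle : Nat.card ↥(R ⊔ W) ≤ Nat.card R := hmax (R ⊔ W) ⟨hn, hsup⟩
  have heq : R = R ⊔ W := Subgroup.eq_of_le_of_card_ge le_sup_left hle
  rw [heq]
  exact le_sup_right

theorem two_prime_card (p q : ℕ) (hp : p.Prime) (hq : q.Prime) (n : ℕ) (hn : n ≠ 0)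
    (h : ∀ r : ℕ, r.Prime → r ∣ n → r = p ∨ r = q) : ∃ a b : ℕ, n = p ^ a * q ^ b := by
  obtain ⟨a, m, hpm, rfl⟩ := Nat.exists_eq_pow_mul_and_not_dvd hn p hp.ne_one
  have hm0 : m ≠ 0 := by
    rintro rfl
    exact hn (by simp)
  obtain ⟨b, m', hqm', rfl⟩ := Nat.exists_eq_pow_mul_and_not_dvd hm0 q hq.ne_one
  have hm1 : m' = 1 := by
    by_contra hne
    obtain ⟨r, hr, hrd⟩ := Nat.exists_prime_and_dvd hne
    rcases h r hr (dvd_mul_of_dvd_right (dvd_mul_of_dvd_right hrd _) _) with rfl | rfl
    · exact hpm (dvd_mul_of_dvd_right hrd _)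
    · exact hqm' hrd
  exact ⟨a, b, by rw [hm1, mul_one]⟩

end basics

/-- The induction hypothesis. -/
def IHyp (G : Type u) [Group G] : Prop :=
  ∀ (H : Type u) [Group H] [Finite H], Nat.card H < Nat.card G →
    ∀ (p : ℕ) (x : H), p.Prime → PP p x → Group.IsSolvable (Subgroup.normalClosure ({x} : Set H))

section steps

variable {G : Type u} [Group G] [Finite G]

theorem step_proper (IH : IHyp G) {p : ℕ} (hp : p.Prime) {x : G} (hx : PP p x)
    (hN : Subgroup.normalClosure ({x} : Set G) ≠ ⊤) :
    Group.IsSolvable (Subgroup.normalClosure ({x} : Set G)) := by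
  have hcard : Nat.card (Subgroup.normalClosure ({x} : Set G)) < Nat.card G := by
    by_contra hcon
    exact hN (Subgroup.eq_top_of_card_eq _
      (le_antisymm (Subgroup.card_le_card_group _) (not_lt.1 hcon)))
  obtain ⟨R, hRn, hRs, hRmax⟩ := exists_radical (Subgroup.normalClosure ({x} : Set G))
  have hmem : ∀ g : G, g * x * g⁻¹ ∈ Subgroup.normalClosure ({x} : Set G) := fun g =>
    Subgroup.normalClosure_normal.conj_mem x
      (Subgroup.subset_normalClosure (Set.mem_singleton x)) g
  have key : ∀ g : G,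
      (⟨g * x * g⁻¹, hmem g⟩ : Subgroup.normalClosure ({x} : Set G)) ∈ R := by
    intro g
    have hpp : PP p (⟨g * x * g⁻¹, hmem g⟩ : Subgroup.normalClosure ({x} : Set G)) :=
      (hx.conj hp g).subgroup hp _ (hmem g)
    have hs := IH _ hcard p _ hp hpp
    exact hRmax _ inferInstance hs (Subgroup.subset_normalClosure (Set.mem_singleton _))
  have hle : Subgroup.normalClosure ({x} : Set G) ≤
      R.map (Subgroup.normalClosure ({x} : Set G)).subtype := by
    show Subgroup.closure (Group.conjugatesOfSet ({x} : Set G)) ≤ _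
    rw [Subgroup.closure_le]
    intro z hz
    rw [Group.mem_conjugatesOfSet_iff] at hz
    obtain ⟨a, ha, hconj⟩ := hz
    rw [Set.mem_singleton_iff] at ha
    subst ha
    obtain ⟨g, hg⟩ := isConj_iff.1 hconj
    subst hg
    exact ⟨⟨g * a * g⁻¹, hmem g⟩, key g, rfl⟩
  have htop : R = ⊤ := by
    rw [eq_top_iff]
    intro n _
    obtain ⟨r, hr, hrn⟩ := hle n.2
    have : r = n := Subtype.ext hrn
    rw [← this]
    exact hr
  rw [htop] at hRs
  exact solvable_of_top hRs

theorem no_solvable_normal (IH : IHyp G) {p : ℕ} (hp : p.Prime) {x : G} (hx : PP p x)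
    (htop : Subgroup.normalClosure ({x} : Set G) = ⊤) (hns : ¬ Group.IsSolvable G)
    (M : Subgroup G) [M.Normal] (hM : M ≠ ⊥) : ¬ Group.IsSolvable M := by
  intro hMs
  apply hns
  have hcard : Nat.card (G ⧸ M) < Nat.card G := by
    have h1 := Subgroup.card_eq_card_quotient_mul_card_subgroup M
    have h2 : 1 < Nat.card M := (Subgroup.one_lt_card_iff_ne_bot M).2 hM
    have h3 : 0 < Nat.card (G ⧸ M) := Nat.card_pos
    nlinarith
  have hpp : PP p (QuotientGroup.mk' M x) := hx.map hp _ (QuotientGroup.mk'_surjective M)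
  have hs := IH (G ⧸ M) hcard p _ hp hpp
  have hcl : Subgroup.normalClosure ({QuotientGroup.mk' M x} : Set (G ⧸ M)) = ⊤ := by
    have := Subgroup.map_normalClosure ({x} : Set G) (QuotientGroup.mk' M)
      (QuotientGroup.mk'_surjective M)
    rw [Set.image_singleton, htop,
      Subgroup.map_top_of_surjective _ (QuotientGroup.mk'_surjective M)] at this
    exact this.symm
  rw [hcl] at hs
  exact solvable_of_normal_quot M hMs (solvable_of_top hs)

/-- The core statement: impossible configuration. -/
def Core (G : Type u) [Group G] : Prop :=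
  ∀ (p q r : ℕ), p.Prime → q.Prime → r.Prime → r ≠ p → r ≠ q → ∀ (y : G), orderOf y = q →
    ∀ a : ℕ, (Subgroup.centralizer ({y} : Set G)).index = p ^ a →
    Subgroup.normalClosure ({y} : Set G) = ⊤ → r ∣ Nat.card G → False

/-- Burnside's two-prime theorem as a hypothesis. -/
def Burn (G : Type u) [Group G] : Prop :=
  ∀ (p q a b : ℕ), p.Prime → q.Prime → Nat.card G = p ^ a * q ^ b → Group.IsSolvable G

theorem step_top (core : Core G) (burn : Burn G) (IH : IHyp G) {p : ℕ} (hp : p.Prime) {x : G}
    (hx : PP p x) (htop : Subgroup.normalClosure ({x} : Set G) = ⊤) : Group.IsSolvable G := by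
  by_contra hns
  have hx1 : x ≠ 1 := by
    rintro rfl
    apply hns
    have hbot : Subgroup.normalClosure ({1} : Set G) = ⊥ := by
      rw [eq_bot_iff]
      apply Subgroup.normalClosure_le_normal
      rw [Set.singleton_subset_iff]
      exact Subgroup.mem_bot.2 rfl
    rw [hbot] at htop
    haveI : Subsingleton G := by
      constructor
      intro a b
      have ha : a ∈ (⊥ : Subgroup G) := by rw [htop]; trivial
      have hb : b ∈ (⊥ : Subgroup G) := by rw [htop]; trivial
      rw [Subgroup.mem_bot.1 ha, Subgroup.mem_bot.1 hb]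
    infer_instance
  have ho1 : orderOf x ≠ 1 := fun h => hx1 (orderOf_eq_one_iff.1 h)
  obtain ⟨q, hq, hqd⟩ := Nat.exists_prime_and_dvd ho1
  obtain ⟨y, hyd⟩ : ∃ y : G, y = x ^ (orderOf x / q) := ⟨_, rfl⟩
  have hyo : orderOf y = q := by
    rw [hyd]
    exact orderOf_pow_orderOf_div (orderOf_pos x).ne' hqd
  have hy1 : y ≠ 1 := by
    intro h
    rw [h, orderOf_one] at hyo
    exact hq.one_lt.ne hyo
  have hyp : PP p y := by
    rw [hyd]
    exact hx.pow hp _
  have hYtop : Subgroup.normalClosure ({y} : Set G) = ⊤ := by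
    by_contra hY
    have hs := step_proper IH hp hyp hY
    have hYbot : Subgroup.normalClosure ({y} : Set G) ≠ ⊥ := by
      intro h0
      apply hy1
      have : y ∈ Subgroup.normalClosure ({y} : Set G) :=
        Subgroup.subset_normalClosure (Set.mem_singleton y)
      rw [h0] at this
      exact Subgroup.mem_bot.1 this
    exact no_solvable_normal IH hp hx htop hns _ hYbot hs
  obtain ⟨a, ha⟩ := hyp
  have hr : ∃ r : ℕ, r.Prime ∧ r ≠ p ∧ r ≠ q ∧ r ∣ Nat.card G := by
    by_contra hcon
    apply hns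
    obtain ⟨a', b', hab⟩ := two_prime_card p q hp hq (Nat.card G) Nat.card_pos.ne'
      (fun r hr hrd => by
        by_contra h
        rw [not_or] at h
        exact hcon ⟨r, hr, h.1, h.2, hrd⟩)
    exact burn p q a' b' hp hq hab
  obtain ⟨r, hrp, hrnp, hrnq, hrd⟩ := hr
  exact core p q r hp hq hrp hrnp hrnq y hyo a ha hYtop hrd

end steps

/-- **Kazarin's theorem**, modulo the core statement and Burnside's theorem. -/
theorem kazarin (core : ∀ (G : Type u) [Group G] [Finite G], Core G)
    (burn : ∀ (G : Type u) [Group G] [Finite G], Burn G) :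
    ∀ (n : ℕ) (G : Type u) [Group G] [Finite G], Nat.card G = n →
      ∀ (p : ℕ) (x : G), p.Prime → PP p x →
        Group.IsSolvable (Subgroup.normalClosure ({x} : Set G)) := by
  intro n
  induction n using Nat.strong_induction_on with
  | _ n ih =>
    intro G _ _ hn p x hp hx
    have IH : IHyp G := fun H _ _ hlt => ih (Nat.card H) (hn ▸ hlt) H rfl
    by_cases htop : Subgroup.normalClosure ({x} : Set G) = ⊤
    · have h := step_top (core G) (burn G) IH hp hx htop
      rw [htop]
      exact solvable_top h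
    · exact step_proper IH hp hx htop

end Cfsg.Agent.Lib.Helper21.Kazarin
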