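import Mathlib
import Cfsg.Agent.S0907
import Cfsg.Agent.Lib.Helper1.CharGalois
import Cfsg.Agent.Lib.Helper1.CharExtra
import Cfsg.Agent.Lib.Helper1.CharReg
import Cfsg.Agent.Lib.Helper6.LocalRing
import Cfsg.Agent.Lib.Helper25.KGV
import Cfsg.Agent.Lib.Helper21.Kazarin

/-!
# Kazarin's theorem: the character-theoretic core

If `y` has prime order `q`, its class has `p`-power size and its normal closure is the whole
group, then the group order is divisible by no prime other than `p` and `q`.  The proof uses the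
principal block for a third prime `r` and weak block orthogonality.
-/

set_option autoImplicit false

namespace Cfsg.Agent.Lib.Helper21.Kazarin

open Cfsg Cfsg.Agent.Lib.Helper1 Cfsg.Agent.Lib.Helper6
open scoped ComplexConjugate

universe u

/-- A root of unity of prime order `q` congruent to `1` modulo an `r`-modular ideal, `r ≠ q`,
is `1`. -/
theorem root_eq_one {r q : ℕ} {M : Ideal Cfsg.AlgInt} (hM : Cfsg.IsPModular r M) (hq : q.Prime)
    (hrq : r ≠ q) (ζ : ℂ) (hζ : ζ ^ q = 1) (h : Cfsg.MemLocalIdeal M (1 - ζ)) : ζ = 1 := by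
  by_contra hne
  have hmax := hM.2.1
  have hint : IsIntegral ℤ ζ := by
    apply IsIntegral.of_pow hq.pos
    rw [hζ]
    exact isIntegral_one
  have hsum : ∑ i ∈ Finset.range q, ζ ^ i = 0 := by
    have h1 := mul_neg_geom_sum ζ q
    rw [hζ, sub_self] at h1
    rcases mul_eq_zero.1 h1 with h2 | h2
    · exact absurd (sub_eq_zero.1 h2).symm hne
    · exact h2
  have hmem : Cfsg.MemLocalIdeal M (∑ i ∈ Finset.range q, (1 - ζ ^ i)) := by
    apply memLocalIdeal_sum hmax
    intro i _
    rw [← mul_neg_geom_sum ζ i]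
    exact MemLocalIdeal.mul_right hmax h
      (memLocalRing_of_isIntegral hmax (IsIntegral.sum _ (fun j _ => hint.pow j)))
  rw [Finset.sum_sub_distrib, hsum, sub_zero, Finset.sum_const, Finset.card_range, nsmul_eq_mul,
    mul_one] at hmem
  have := (memLocalIdeal_natCast_iff hM q).1 hmem
  exact hrq ((Nat.prime_dvd_prime_iff_eq hM.1 hq).1 this)

theorem core_all (G : Type u) [Group G] [Finite G] : Core G := by
  classical
  intro p q r hp hq hr hrp hrq y hyo a ha htop hrd
  haveI : Fact r.Prime := ⟨hr⟩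
  have := Fintype.ofFinite G
  have hirr : Fintype (Cfsg.IrrCharacter G) := irrFintype
  obtain ⟨M, hM⟩ := Cfsg.Agent.Lib.Helper25.KGV.exists_pModular r hr
  have hmax := hM.2.1
  let χ₀ : Cfsg.IrrCharacter G := ⟨fun _ => 1, isIrrCharacter_one⟩
  have hB : Cfsg.IsPBlock M (Cfsg.principalBlock M G) := ⟨χ₀, rfl⟩
  have hχ₀B : χ₀ ∈ Cfsg.principalBlock M G := sameBlock_refl hmax _
  obtain ⟨u, hu⟩ := exists_prime_orderOf_dvd_card' r hrd
  have hd : ∀ χ : Cfsg.IrrCharacter G, ∃ n : ℕ, (χ : G → ℂ) 1 = (n : ℂ) ∧ n ∣ Nat.card G ∧ 0 < n :=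
    fun χ => IsIrrCharacter.degree_dvd_card χ.2
  choose d hd1 hd2 hd3 using hd
  have hint : ∀ (χ : Cfsg.IrrCharacter G) (g : G), IsIntegral ℤ ((χ : G → ℂ) g) := by
    intro χ g
    obtain ⟨n, ρ, hρ, hχ⟩ := χ.2
    rw [← hχ]
    exact isIntegral_char ρ g
  have hpa : ¬ Cfsg.MemLocalIdeal M ((p ^ a : ℕ) : ℂ) := by
    intro h
    have h1 := (memLocalIdeal_natCast_iff hM (p ^ a)).1 h
    have h2 := hr.dvd_of_dvd_pow h1
    exact hrp ((Nat.prime_dvd_prime_iff_eq hr hp).1 h2)
  -- block condition at y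
  have hblock : ∀ χ ∈ Cfsg.principalBlock M G, Cfsg.MemLocalIdeal M
      (((p ^ a : ℕ) : ℂ) - ((p ^ a : ℕ) : ℂ) * (χ : G → ℂ) y / (χ : G → ℂ) 1) := by
    intro χ hχ
    have h1 := hχ y
    simp only [Cfsg.centralChar] at h1
    rw [ha] at h1
    simpa using h1
  have hkey : ∀ χ ∈ Cfsg.principalBlock M G, χ ≠ χ₀ → p ∣ d χ := by
    intro χ hχB hχ0
    by_contra hpd
    obtain ⟨n, ρ, hρ, hχ⟩ := χ.2
    haveI := hρ
    have hn : Module.finrank ℂ (Fin n → ℂ) = d χ := by
      have h1 := hd1 χ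
      rw [← hχ, Representation.char_one] at h1
      exact_mod_cast h1
    have hy0 : (χ : G → ℂ) y ≠ 0 := by
      intro h0
      have h1 := hblock χ hχB
      rw [h0, mul_zero, zero_div, sub_zero] at h1
      exact hpa h1
    have hcop : Nat.Coprime (Module.finrank ℂ (Fin n → ℂ))
        (Subgroup.centralizer ({y} : Set G)).index := by
      rw [ha, hn]
      exact Nat.Coprime.pow_right a ((Nat.Prime.coprime_iff_not_dvd hp).mpr hpd).symm
    rcases char_zero_or_norm_of_coprime ρ y hcop with h | h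
    · apply hy0; rw [← hχ]; exact h
    · obtain ⟨ω, hω⟩ := (norm_char_eq_iff ρ y).mp h
      have hZ : (Subgroup.center ((Fin n → ℂ) →ₗ[ℂ] (Fin n → ℂ))ˣ).comap ρ.asGroupHom = ⊤ := by
        rw [eq_top_iff, ← htop]
        apply Subgroup.normalClosure_le_normal
        rw [Set.singleton_subset_iff]
        show ρ.asGroupHom y ∈ Subgroup.center _
        rw [Subgroup.mem_center_iff]
        intro v
        apply Units.ext
        rw [Units.val_mul, Units.val_mul, Representation.asGroupHom_apply, hω]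
        ext w
        simp
      have hcomm : ∀ x z : G, (χ : G → ℂ) (x * z * x⁻¹ * z⁻¹) = (χ : G → ℂ) 1 := by
        intro x z
        have hx : ρ.asGroupHom x ∈ Subgroup.center ((Fin n → ℂ) →ₗ[ℂ] (Fin n → ℂ))ˣ := by
          have : x ∈ (Subgroup.center ((Fin n → ℂ) →ₗ[ℂ] (Fin n → ℂ))ˣ).comap ρ.asGroupHom := by
            rw [hZ]; trivial
          exact this
        have hc := Subgroup.mem_center_iff.1 hx (ρ.asGroupHom z)
        have h1 : ρ.asGroupHom (x * z * x⁻¹ * z⁻¹) = 1 := by
          rw [map_mul, map_mul, map_mul, map_inv, map_inv, ← hc, mul_inv_cancel_right,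
            mul_inv_cancel]
        have h2 : ρ (x * z * x⁻¹ * z⁻¹) = ρ 1 := by
          have := congrArg Units.val h1
          rw [Representation.asGroupHom_apply] at this
          rw [this, map_one]; rfl
        rw [← hχ]
        show LinearMap.trace ℂ _ (ρ (x * z * x⁻¹ * z⁻¹)) = LinearMap.trace ℂ _ (ρ 1)
        rw [h2]
      have h1 := IsIrrCharacter.degree_one_of_comm_ker χ.2 hcomm
      obtain ⟨lam, hlam⟩ := IsIrrCharacter.exists_monoidHom χ.2 h1
      have h2 := hblock χ hχB
      rw [h1, div_one, hlam y] at h2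
      have h3 : Cfsg.MemLocalIdeal M (((p ^ a : ℕ) : ℂ) * (1 - ((lam y : ℂˣ) : ℂ))) := by
        rw [mul_sub, mul_one]; exact h2
      have hlint : IsIntegral ℤ ((lam y : ℂˣ) : ℂ) := by rw [← hlam y]; exact hint χ y
      rcases (memLocalIdeal_mul_iff hmax (memLocalRing_natCast hmax _)
        (memLocalRing_of_isIntegral hmax (isIntegral_one.sub hlint))).1 h3 with h4 | h4
      · exact hpa h4
      · have hlq : ((lam y : ℂˣ) : ℂ) ^ q = 1 := by
          rw [← Units.val_pow_eq_pow_val, ← map_pow, ← hyo, pow_orderOf_eq_one, map_one,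
            Units.val_one]
        have h5 := root_eq_one hM hq hrq _ hlq h4
        have hker : lam.ker = ⊤ := by
          rw [eq_top_iff, ← htop]
          apply Subgroup.normalClosure_le_normal
          rw [Set.singleton_subset_iff]
          show y ∈ lam.ker
          rw [MonoidHom.mem_ker]
          exact Units.ext h5
        apply hχ0
        apply Subtype.ext
        funext g
        rw [hlam g]
        have : g ∈ lam.ker := by rw [hker]; trivial
        rw [MonoidHom.mem_ker.1 this]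
        rfl
  -- weak block orthogonality
  have horth := Cfsg.Agent.S0907.result r M hM (Cfsg.principalBlock M G) hB 1 u
    (by rw [orderOf_one]; exact fun h => hr.one_lt.ne' (Nat.dvd_one.1 h)) (by rw [hu])
  rw [finsum_mem_eq_finite_toFinset_sum _ (Set.toFinite (Cfsg.principalBlock M G))] at horth
  have hχ₀S : χ₀ ∈ (Set.toFinite (Cfsg.principalBlock M G)).toFinset :=
    (Set.Finite.mem_toFinset _).2 hχ₀B
  rw [← Finset.add_sum_erase _ _ hχ₀S] at horth
  let c : Cfsg.IrrCharacter G → ℂ := fun χ => ((d χ / p : ℕ) : ℂ) * conj ((χ : G → ℂ) u)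
  have hc : ∀ χ, IsIntegral ℤ (c χ) := fun χ =>
    (isIntegral_natCast (R := ℤ) (B := ℂ) (a := d χ / p)).mul
      (map_isIntegral_int (starRingEnd ℂ) (hint χ u))
  have hterm : ∀ χ ∈ (Set.toFinite (Cfsg.principalBlock M G)).toFinset.erase χ₀,
      (χ : G → ℂ) 1 * conj ((χ : G → ℂ) u) = (p : ℂ) * c χ := by
    intro χ hχ
    rw [Finset.mem_erase] at hχ
    obtain ⟨e, he⟩ := hkey χ ((Set.Finite.mem_toFinset _).1 hχ.2) hχ.1
    simp only [c]
    rw [hd1 χ, he, Nat.mul_div_cancel_left e hp.pos]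
    push_cast; ring
  rw [Finset.sum_congr rfl hterm, ← Finset.mul_sum] at horth
  have h0 : (χ₀ : G → ℂ) 1 * conj ((χ₀ : G → ℂ) u) = 1 := by simp [χ₀]
  rw [h0] at horth
  have hβ : IsIntegral ℤ (∑ χ ∈ (Set.toFinite (Cfsg.principalBlock M G)).toFinset.erase χ₀, c χ) :=
    IsIntegral.sum _ (fun χ _ => hc χ)
  have hpc : (p : ℂ) ≠ 0 := by exact_mod_cast hp.ne_zero
  have h1 : ((1 : ℕ) : ℂ) / (p : ℂ) =
      -(∑ χ ∈ (Set.toFinite (Cfsg.principalBlock M G)).toFinset.erase χ₀, c χ) := by
    field_simp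
    push_cast
    linear_combination horth
  have h2 : IsIntegral ℤ (((1 : ℕ) : ℂ) / (p : ℂ)) := by rw [h1]; exact hβ.neg
  have h3 := nat_dvd_of_isIntegral_div hp.ne_zero h2
  exact hp.one_lt.ne' (Nat.dvd_one.mp h3)

end Cfsg.Agent.Lib.Helper21.Kazarin
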