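import Mathlib
import Cfsg.Agent.Lib.Helper1.CharGalois
import Cfsg.Agent.Lib.Helper10.CNQuot
import Cfsg.Agent.Lib.Helper21.Kazarin
import Cfsg.Agent.Lib.Helper21.Kazarin2

/-!
# Consequences of Kazarin's theorem

If the class of `x` has `p`-power size and `O_p(G) = 1`, the normal closure of `x` is an abelian
group of order prime to `p`.
-/

set_option autoImplicit false

namespace Cfsg.Agent.Lib.Helper21.Kazarin

universe u

/-- Kazarin's theorem. -/
theorem kazarin_full {G : Type u} [Group G] [Finite G] {p : ℕ} (hp : p.Prime) (x : G)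
    (hx : PP p x) : Group.IsSolvable (Subgroup.normalClosure ({x} : Set G)) :=
  kazarin (fun H _ _ => core_all H)
    (fun _ _ _ p q a b hp hq hcard =>
      Cfsg.Agent.Lib.Helper1.solvable_of_two_primes p q a b hp hq hcard)
    _ G rfl p x hp hx

/-- The normal closure of an element with `p`-power class centralizes every normal subgroup of
order prime to `p`. -/
theorem central_of_pprime {G : Type u} [Group G] [Finite G] {p : ℕ} (hp : p.Prime) {x : G}
    (hx : PP p x) (K : Subgroup G) [K.Normal] (hK : ¬ p ∣ Nat.card K) :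
    ∀ k ∈ K, ∀ n ∈ Subgroup.normalClosure ({x} : Set G), k * n = n * k := by
  obtain ⟨a, ha⟩ := hx
  have h1 : (Subgroup.centralizer ({x} : Set G)).relIndex K ∣ p ^ a := by
    rw [← ha]; exact relIndex_dvd_of_normal _ K
  have h2 : (Subgroup.centralizer ({x} : Set G)).relIndex K ∣ Nat.card K :=
    Subgroup.relIndex_dvd_card _ _
  obtain ⟨j, -, hj⟩ := (Nat.dvd_prime_pow hp).1 h1
  have hj0 : j = 0 := by
    by_contra hne
    apply hK
    refine dvd_trans ?_ h2
    rw [hj]
    exact dvd_pow_self p hne
  rw [hj0, pow_zero] at hj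
  have hle : K ≤ Subgroup.centralizer ({x} : Set G) := Subgroup.relIndex_eq_one.1 hj
  have hx_mem : x ∈ Subgroup.centralizer (K : Set G) := by
    rw [Subgroup.mem_centralizer_iff]
    intro k hk
    exact Subgroup.mem_centralizer_singleton_iff.1 (hle hk)
  have hcl : Subgroup.normalClosure ({x} : Set G) ≤ Subgroup.centralizer (K : Set G) :=
    Subgroup.normalClosure_le_normal (Set.singleton_subset_iff.2 hx_mem)
  intro k hk n hn
  exact Subgroup.mem_centralizer_iff.1 (hcl hn) k hk

/-- A solvable normal subgroup centralizing all its `G`-normal subgroups of order prime to `p`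
has order prime to `p`, provided `O_p(G) = 1`. -/
theorem pprime_of_central {G : Type u} [Group G] [Finite G] (p : ℕ) [Fact p.Prime]
    (hOp : ∀ P : Subgroup G, P.Normal → IsPGroup p P → P = ⊥)
    (N : Subgroup G) [N.Normal] (hNs : Group.IsSolvable N)
    (hcent : ∀ K : Subgroup G, K.Normal → K ≤ N → ¬ p ∣ Nat.card K →
      ∀ k ∈ K, ∀ n ∈ N, k * n = n * k) :
    ¬ p ∣ Nat.card N := by
  classical
  have hp : p.Prime := Fact.out
  have hfin : ({K : Subgroup G | K.Normal ∧ K ≤ N ∧ ¬ p ∣ Nat.card K}).Finite := Set.toFinite _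
  have hne : ({K : Subgroup G | K.Normal ∧ K ≤ N ∧ ¬ p ∣ Nat.card K}).Nonempty :=
    ⟨⊥, Subgroup.normal_bot, bot_le, by
      rw [Subgroup.card_bot]; exact fun h => hp.one_lt.ne' (Nat.dvd_one.1 h)⟩
  obtain ⟨K, ⟨hKn, hKN, hKp⟩, hmax⟩ :=
    Set.exists_max_image _ (fun K : Subgroup G => Nat.card K) hfin hne
  by_cases hKeq : K = N
  · rw [← hKeq]; exact hKp
  exfalso
  haveI := hKn
  have hNbar_ne : N.map (QuotientGroup.mk' K) ≠ ⊥ := by
    intro h
    apply hKeq
    apply le_antisymm hKN
    intro n hn
    have h1 : QuotientGroup.mk' K n ∈ N.map (QuotientGroup.mk' K) :=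
      Subgroup.mem_map_of_mem _ hn
    rw [h, Subgroup.mem_bot] at h1
    exact (QuotientGroup.eq_one_iff n).1 h1
  have hNbar_n : (N.map (QuotientGroup.mk' K)).Normal :=
    Subgroup.Normal.map inferInstance _ (QuotientGroup.mk'_surjective K)
  have hNbar_s : Group.IsSolvable (N.map (QuotientGroup.mk' K)) :=
    Group.isSolvable_of_surjective (f := (QuotientGroup.mk' K).subgroupMap N)
      ((QuotientGroup.mk' K).subgroupMap_surjective N)
  obtain ⟨V, r, hVn, hV0, hr, hVr, hVle⟩ :=
    Cfsg.Agent.Lib.Helper10.CNQuot.exists_normal_pgroup_le _ (N.map (QuotientGroup.mk' K))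
      hNbar_n hNbar_ne hNbar_s le_rfl
  obtain ⟨B, hB⟩ : ∃ B : Subgroup G, B = V.comap (QuotientGroup.mk' K) := ⟨_, rfl⟩
  have hBn : B.Normal := by rw [hB]; exact hVn.comap _
  have hKB : K ≤ B := by
    intro k hk
    rw [hB, Subgroup.mem_comap]
    have h1 : QuotientGroup.mk' K k = 1 := (QuotientGroup.eq_one_iff k).2 hk
    rw [h1]
    exact V.one_mem
  have hBN : B ≤ N := by
    intro b hb
    rw [hB, Subgroup.mem_comap] at hb
    obtain ⟨n, hn, hnb⟩ := hVle hb
    have h1 : n⁻¹ * b ∈ K := QuotientGroup.eq.1 hnb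
    have h2 := N.mul_mem hn (hKN h1)
    rwa [mul_inv_cancel_left] at h2
  have hcardB : Nat.card B = Nat.card K * Nat.card V := by
    have h1 := Subgroup.card_mul_index B
    have h2 := Subgroup.card_mul_index V
    have h3 : B.index = V.index := by
      rw [hB]; exact Subgroup.index_comap_of_surjective _ (QuotientGroup.mk'_surjective K)
    have h4 := Subgroup.card_eq_card_quotient_mul_card_subgroup K
    have h5 : 0 < V.index := Nat.pos_of_ne_zero Subgroup.index_ne_zero_of_finite
    rw [h3] at h1
    have h6 : Nat.card B * V.index = (Nat.card K * Nat.card V) * V.index := by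
      rw [h1, h4, ← h2]; ring
    exact Nat.eq_of_mul_eq_mul_right h5 h6
  have hV1 : 1 < Nat.card V := (Subgroup.one_lt_card_iff_ne_bot V).2 hV0
  haveI : Fact r.Prime := ⟨hr⟩
  obtain ⟨e, he⟩ := (IsPGroup.iff_card).1 hVr
  have he0 : e ≠ 0 := by
    rintro rfl
    rw [pow_zero] at he
    omega
  have hK0 : 0 < Nat.card K := Nat.card_pos
  by_cases hrp : r = p
  · rw [hrp] at he
    have hKc : ∀ k ∈ K, ∀ b ∈ B, k * b = b * k := fun k hk b hb =>
      hcent K hKn hKN hKp k hk b (hBN hb)
    obtain ⟨P⟩ : Nonempty (Sylow p B) := inferInstance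
    have hidx : (K.subgroupOf B).index = p ^ e := by
      have h1 := Subgroup.card_mul_index (K.subgroupOf B)
      have h2 : Nat.card (K.subgroupOf B) = Nat.card K :=
        Nat.card_congr (Subgroup.subgroupOfEquivOfLe hKB).toEquiv
      rw [h2, hcardB, he] at h1
      exact Nat.eq_of_mul_eq_mul_left hK0 h1
    have hsup : K.subgroupOf B ⊔ (P : Subgroup B) = ⊤ := by
      rw [← Subgroup.index_eq_one]
      have d1 : (K.subgroupOf B ⊔ (P : Subgroup B)).index ∣ p ^ e := by
        rw [← hidx]; exact Subgroup.index_dvd_of_le le_sup_left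
      have d2 : (K.subgroupOf B ⊔ (P : Subgroup B)).index ∣ (P : Subgroup B).index :=
        Subgroup.index_dvd_of_le le_sup_right
      obtain ⟨j, -, hj⟩ := (Nat.dvd_prime_pow hp).1 d1
      have hj0 : j = 0 := by
        by_contra hne
        apply P.not_dvd_index
        refine dvd_trans ?_ d2
        rw [hj]; exact dvd_pow_self p hne
      rw [hj, hj0, pow_zero]
    have hnorm : Subgroup.normalizer ((P : Subgroup B) : Set B) = ⊤ := by
      rw [eq_top_iff, ← hsup, sup_le_iff]
      refine ⟨?_, Subgroup.le_normalizer⟩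
      intro k hk
      rw [Subgroup.mem_normalizer_iff]
      intro h
      have hc : k * h * k⁻¹ = h := by
        have h0 := hKc k.1 (Subgroup.mem_subgroupOf.1 hk) h.1 h.2
        have h' : k * h = h * k := Subtype.ext h0
        rw [h', mul_inv_cancel_right]
      rw [hc]
    have hPn : (P : Subgroup B).Normal := Subgroup.normalizer_eq_top_iff.1 hnorm
    haveI := hPn
    have hPc : (P : Subgroup B).Characteristic := Sylow.characteristic_of_normal P hPn
    haveI := hPc
    haveI := hBn
    have hPG : ((P : Subgroup B).map B.subtype).Normal :=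
      ConjAct.normal_of_characteristic_of_normal
    have hbot := hOp _ hPG (P.2.map B.subtype)
    have hPbot : (P : Subgroup B) = ⊥ :=
      (Subgroup.map_eq_bot_iff_of_injective _ B.subtype_injective).1 hbot
    have hpB : p ∣ Nat.card B := by
      rw [hcardB, he]; exact dvd_mul_of_dvd_right (dvd_pow_self p he0) _
    apply P.not_dvd_index
    rw [hPbot, Subgroup.index_bot]
    exact hpB
  · have hBp : ¬ p ∣ Nat.card B := by
      rw [hcardB, he]
      intro hd
      rcases (Nat.Prime.dvd_mul hp).1 hd with h1 | h1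
      · exact hKp h1
      · exact hrp ((Nat.prime_dvd_prime_iff_eq hp hr).1 (hp.dvd_of_dvd_pow h1)).symm
    have h1 : Nat.card B ≤ Nat.card K := hmax B ⟨hBn, hBN, hBp⟩
    rw [hcardB] at h1
    nlinarith

/-- If `O_p(G) = 1` and the class of `x` has `p`-power size, the normal closure of `x` is
abelian. -/
theorem comm_of_core_bot {G : Type u} [Group G] [Finite G] (p : ℕ) [Fact p.Prime]
    (hOp : ∀ P : Subgroup G, P.Normal → IsPGroup p P → P = ⊥) (x : G) (hx : PP p x) :
    ∀ a ∈ Subgroup.normalClosure ({x} : Set G), ∀ b ∈ Subgroup.normalClosure ({x} : Set G),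
      a * b = b * a := by
  have hp : p.Prime := Fact.out
  have hs := kazarin_full hp x hx
  have h1 := pprime_of_central p hOp (Subgroup.normalClosure ({x} : Set G)) hs
    (fun K hKn _ hKp k hk n hn => by
      haveI := hKn
      exact central_of_pprime hp hx K hKp k hk n hn)
  intro a ha b hb
  exact central_of_pprime hp hx (Subgroup.normalClosure ({x} : Set G)) h1 a ha b hb

end Cfsg.Agent.Lib.Helper21.Kazarin
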