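import Mathlib

/-!
# Simple groups whose proper subgroups of even order are small

Setting (`Hyp G q`): `G` simple, `4 ∣ |G|`, `q` odd, every proper subgroup of even order has
order dividing `4 q`.  Then the Sylow 2-subgroups are Klein four-groups and all involutions are
conjugate.  With a Sylow 3-subgroup `P` as in `Data P` we bound `|G|` by counting involutions.
-/

set_option autoImplicit false

namespace Cfsg.Agent.Lib.Helper21.KleinCount

universe u

variable {G : Type u} [Group G]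

theorem order_conj (g x : G) : orderOf (g * x * g⁻¹) = orderOf x := by
  rw [← MulAut.conj_apply]
  exact (MulAut.conj g).orderOf_eq x

theorem isPGroup_zpowers {p : ℕ} [Fact p.Prime] {x : G} {k : ℕ} (hx : x ^ (p ^ k) = 1) :
    IsPGroup p (Subgroup.zpowers x) := by
  obtain ⟨j, -, hj⟩ := (Nat.dvd_prime_pow (Fact.out : p.Prime)).1 (orderOf_dvd_of_pow_eq_one hx)
  exact IsPGroup.of_card (n := j) (by rw [Nat.card_zpowers, hj])

variable [Finite G]

theorem pow_card_of_mem (H : Subgroup G) {x : G} (hx : x ∈ H) : x ^ Nat.card H = 1 :=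
  orderOf_dvd_iff_pow_eq_one.1 (Subgroup.orderOf_dvd_natCard H hx)

theorem mem_sylow_of_normalizer (p : ℕ) [Fact p.Prime] (P : Sylow p G) {x : G}
    (hx : x ∈ Subgroup.normalizer ((P : Subgroup G) : Set G))
    (hp : IsPGroup p (Subgroup.zpowers x)) : x ∈ (P : Subgroup G) := by
  have hle : Subgroup.zpowers x ≤ Subgroup.normalizer ((P : Subgroup G) : Set G) :=
    Subgroup.zpowers_le.2 hx
  have hsup := IsPGroup.to_sup_of_normal_right' hp P.isPGroup' hle
  have h1 := P.is_maximal' hsup le_sup_right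
  have h2 : x ∈ Subgroup.zpowers x ⊔ (P : Subgroup G) :=
    Subgroup.mem_sup_left (Subgroup.mem_zpowers x)
  rw [h1] at h2
  exact h2

theorem exists_conj_mem_sylow (p : ℕ) [Fact p.Prime] (P : Sylow p G) {x : G}
    (hp : IsPGroup p (Subgroup.zpowers x)) : ∃ g : G, g⁻¹ * x * g ∈ (P : Subgroup G) := by
  obtain ⟨Q, hQ⟩ := hp.exists_le_sylow
  obtain ⟨g, hg⟩ := MulAction.exists_smul_eq G P Q
  refine ⟨g, ?_⟩
  have hx : x ∈ (Q : Subgroup G) := hQ (Subgroup.mem_zpowers x)
  rw [← hg, Sylow.coe_subgroup_smul] at hx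
  obtain ⟨s, hs, rfl⟩ := (Subgroup.mem_smul_pointwise_iff_exists _ _ _).1 hx
  have e : g⁻¹ * (MulAut.conj g • s) * g = s := by
    rw [MulAut.smul_def, MulAut.conj_apply]
    group
  rw [e]
  exact hs

theorem mem_normalizer_of_conj_mem (H : Subgroup G) (g : G) (hg : ∀ h ∈ H, g * h * g⁻¹ ∈ H) :
    g ∈ Subgroup.normalizer (H : Set G) := by
  rw [Subgroup.mem_normalizer_iff]
  intro h
  refine ⟨hg h, fun hh => ?_⟩
  have hinj : Function.Injective (fun k : H => (⟨g * k * g⁻¹, hg k k.2⟩ : H)) := by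
    intro a b hab
    have h1 : g * (a : G) * g⁻¹ = g * (b : G) * g⁻¹ := congrArg Subtype.val hab
    exact Subtype.ext (mul_left_cancel (mul_right_cancel h1))
  obtain ⟨k, hk⟩ := (Finite.injective_iff_surjective.1 hinj) ⟨g * h * g⁻¹, hh⟩
  have h1 : g * (k : G) * g⁻¹ = g * h * g⁻¹ := congrArg Subtype.val hk
  have h2 : (k : G) = h := mul_left_cancel (mul_right_cancel h1)
  rw [← h2]
  exact k.2

/-- Hypothesis bundle: `G` simple, `4 ∣ |G|`, `q` odd, proper subgroups of even order have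
order dividing `4 q`. -/
structure Hyp (G : Type u) [Group G] (q : ℕ) : Prop where
  simple : IsSimpleGroup G
  four : 4 ∣ Nat.card G
  odd : Odd q
  even : ∀ H : Subgroup G, H ≠ ⊤ → 2 ∣ Nat.card H → Nat.card H ∣ 4 * q

section Two

variable {q : ℕ} (h : Hyp G q)
include h

theorem central_eq_one {z : G} (hz : ∀ g : G, g * z = z * g) : z = 1 := by
  by_contra hz1
  haveI := h.simple
  have hc : Subgroup.center G = ⊤ := by
    rcases (inferInstance : (Subgroup.center G).Normal).eq_bot_or_eq_top with h0 | h0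
    · exfalso
      have : z ∈ Subgroup.center G := Subgroup.mem_center_iff.2 hz
      rw [h0, Subgroup.mem_bot] at this
      exact hz1 this
    · exact h0
  have hcomm : ∀ a b : G, a * b = b * a := by
    intro a b
    have : b ∈ Subgroup.center G := by rw [hc]; trivial
    exact Subgroup.mem_center_iff.1 this a
  haveI : Fact (Nat.Prime 2) := ⟨Nat.prime_two⟩
  obtain ⟨u, hu⟩ := exists_prime_orderOf_dvd_card' (G := G) 2 (dvd_trans (by norm_num) h.four)
  have hn : (Subgroup.zpowers u).Normal := ⟨fun n hn g => by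
    rw [hcomm g n, mul_inv_cancel_right]; exact hn⟩
  rcases hn.eq_bot_or_eq_top with h0 | h0
  · rw [Subgroup.zpowers_eq_bot] at h0
    rw [h0, orderOf_one] at hu
    omega
  · have h1 : Nat.card (Subgroup.zpowers u) = 2 := by rw [Nat.card_zpowers, hu]
    rw [h0, Subgroup.card_top] at h1
    have := h.four
    rw [h1] at this
    omega

theorem centralizer_ne_top {z : G} (hz : z ≠ 1) :
    Subgroup.centralizer ({z} : Set G) ≠ ⊤ := by
  intro htop
  apply hz
  apply central_eq_one h
  intro g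
  have : g ∈ Subgroup.centralizer ({z} : Set G) := by rw [htop]; trivial
  exact Subgroup.mem_centralizer_singleton_iff.1 this

theorem card_sylow (S : Sylow 2 G) : Nat.card S = 4 := by
  haveI : Fact (Nat.Prime 2) := ⟨Nat.prime_two⟩
  have h4 : 4 ∣ Nat.card S := S.pow_dvd_card_of_pow_dvd_card (n := 2) (by simpa using h.four)
  obtain ⟨k, hk⟩ := IsPGroup.iff_card.mp S.isPGroup'
  haveI : Nontrivial S := by
    rw [← Finite.one_lt_card_iff_nontrivial]
    have := Nat.le_of_dvd Nat.card_pos h4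
    omega
  haveI := IsPGroup.center_nontrivial S.isPGroup'
  obtain ⟨z, hz1⟩ := exists_ne (1 : Subgroup.center (S : Subgroup G))
  have hz1' : ((z : (S : Subgroup G)) : G) ≠ 1 := by
    intro h0
    apply hz1
    apply Subtype.ext
    apply Subtype.ext
    exact h0
  have hle : (S : Subgroup G) ≤ Subgroup.centralizer ({((z : (S : Subgroup G)) : G)} : Set G) := by
    intro s hs
    rw [Subgroup.mem_centralizer_singleton_iff]
    exact congrArg Subtype.val (Subgroup.mem_center_iff.1 z.2 ⟨s, hs⟩)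
  have hd := Subgroup.card_dvd_of_le hle
  have hc := h.even _ (centralizer_ne_top h hz1')
    (dvd_trans (dvd_trans (by norm_num : 2 ∣ 4) h4) hd)
  have h5 : Nat.card S ∣ 4 * q := dvd_trans hd hc
  have hcop : Nat.Coprime (Nat.card S) q := by
    rw [hk]
    exact Nat.Coprime.pow_left _ (Nat.coprime_two_left.2 h.odd)
  exact Nat.dvd_antisymm (hcop.dvd_of_dvd_mul_right h5) h4

theorem sylow_comm (S : Sylow 2 G) :
    ∀ a ∈ (S : Subgroup G), ∀ b ∈ (S : Subgroup G), a * b = b * a := by
  haveI : Fact (Nat.Prime 2) := ⟨Nat.prime_two⟩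
  have := IsPGroup.commutative_of_card_eq_prime_sq (p := 2) (G := ↥(S : Subgroup G))
    (by rw [card_sylow h S]; norm_num)
  intro a ha b hb
  exact congrArg Subtype.val (this ⟨a, ha⟩ ⟨b, hb⟩)

theorem not_normalizer_le (S : Sylow 2 G) :
    ¬ Subgroup.normalizer ((S : Subgroup G) : Set G) ≤
      Subgroup.centralizer ((S : Subgroup G) : Set G) := by
  haveI : Fact (Nat.Prime 2) := ⟨Nat.prime_two⟩
  haveI := h.simple
  intro hP
  have hc := MonoidHom.ker_transferSylow_isComplement' S hP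
  have hcard := hc.card_mul
  rw [card_sylow h S] at hcard
  rcases (MonoidHom.normal_ker (MonoidHom.transferSylow S hP)).eq_bot_or_eq_top with h0 | h0
  · rw [h0, Subgroup.card_bot, one_mul] at hcard
    have hS : (S : Subgroup G) = ⊤ := Subgroup.eq_top_of_card_eq _ (by rw [card_sylow h S, hcard])
    obtain ⟨u, hu⟩ := exists_prime_orderOf_dvd_card' (G := G) 2 (dvd_trans (by norm_num) h.four)
    have hu1 : u = 1 := by
      apply central_eq_one h
      intro g
      exact sylow_comm h S g (by rw [hS]; trivial) u (by rw [hS]; trivial)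
    rw [hu1, orderOf_one] at hu
    omega
  · rw [h0, Subgroup.card_top] at hcard
    have := Nat.card_pos (α := G)
    omega

theorem exists_fusion (S : Sylow 2 G) :
    ∃ a ∈ (S : Subgroup G), orderOf a = 2 ∧
      ∀ s ∈ (S : Subgroup G), s ≠ 1 → ∃ g : G, s = g * a * g⁻¹ := by
  classical
  haveI : Fact (Nat.Prime 2) := ⟨Nat.prime_two⟩
  have hcomm := sylow_comm h S
  have hcard := card_sylow h S
  obtain ⟨x, hxN, hxC⟩ := SetLike.not_le_iff_exists.1 (not_normalizer_le h S)
  rw [Subgroup.mem_centralizer_iff] at hxC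
  obtain ⟨a, haS, hax⟩ : ∃ a ∈ (S : Subgroup G), a * x ≠ x * a := by
    by_contra hcon
    apply hxC
    intro a ha
    by_contra hne
    exact hcon ⟨a, ha, hne⟩
  have hconjS : ∀ s ∈ (S : Subgroup G), x * s * x⁻¹ ∈ (S : Subgroup G) := fun s hs =>
    (Subgroup.mem_normalizer_iff.1 hxN s).1 hs
  obtain ⟨b, hb⟩ : ∃ b : G, b = x * a * x⁻¹ := ⟨_, rfl⟩
  obtain ⟨c, hc⟩ : ∃ c : G, c = x * b * x⁻¹ := ⟨_, rfl⟩
  have hbS : b ∈ (S : Subgroup G) := hb ▸ hconjS a haS
  have hcS : c ∈ (S : Subgroup G) := hc ▸ hconjS b hbS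
  have hxa : x * a = b * x := by rw [hb]; group
  have hxb : x * b = c * x := by rw [hc]; group
  have hba : b ≠ a := by
    intro hE
    rw [hE] at hxa
    exact hax hxa.symm
  have ha1 : a ≠ 1 := by
    rintro rfl
    apply hax
    simp
  have hb1 : b ≠ 1 := by
    intro hE
    rw [hE, one_mul] at hxa
    have : a = 1 := by
      have h2 : x * a = x * 1 := by rw [hxa, mul_one]
      exact mul_left_cancel h2
    exact ha1 this
  have hc1 : c ≠ 1 := by
    intro hE
    rw [hE, one_mul] at hxb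
    have : b = 1 := by
      have h2 : x * b = x * 1 := by rw [hxb, mul_one]
      exact mul_left_cancel h2
    exact hb1 this
  have hcb : c ≠ b := by
    intro hE
    rw [hE, ← hxa] at hxb
    exact hba (mul_left_cancel hxb)
  have hca : c ≠ a := by
    intro hE
    rw [hE] at hxb
    -- x swaps a and b
    have hx2b : Commute (x ^ 2) b := by
      show x ^ 2 * b = b * x ^ 2
      rw [pow_two, mul_assoc, hxb, ← mul_assoc, hxa, mul_assoc]
    obtain ⟨j, m', hm'odd, hm⟩ := Nat.exists_eq_two_pow_mul_odd (orderOf_pos x).ne'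
    obtain ⟨i, hi⟩ := hm'odd
    have hx2 : x ^ m' ∈ (S : Subgroup G) := by
      apply mem_sylow_of_normalizer 2 S (Subgroup.pow_mem _ hxN _)
      apply isPGroup_zpowers (k := j)
      rw [← pow_mul, mul_comm, ← hm]
      exact pow_orderOf_eq_one x
    have h1 : x ^ m' * a = a * x ^ m' := hcomm _ hx2 a haS
    have h2 : x ^ m' * a = b * x ^ m' := by
      rw [hi, pow_succ, pow_mul, mul_assoc, hxa, ← mul_assoc, (hx2b.pow_left i).eq, mul_assoc]
    rw [h1] at h2
    exact hba (mul_right_cancel h2).symm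
  have key : ∀ s ∈ (S : Subgroup G), s ≠ 1 → s = a ∨ s = b ∨ s = c := by
    intro s hs hs1
    by_contra hcon
    rw [not_or, not_or] at hcon
    obtain ⟨hsa, hsb, hsc⟩ := hcon
    haveI := Fintype.ofFinite G
    have hF : ({1, a, b, c, s} : Finset G).card = 5 := by
      rw [Finset.card_insert_of_notMem, Finset.card_insert_of_notMem,
        Finset.card_insert_of_notMem, Finset.card_insert_of_notMem, Finset.card_singleton]
      · simp only [Finset.mem_singleton]
        exact fun hE => hsc hE.symm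
      · simp only [Finset.mem_insert, Finset.mem_singleton, not_or]
        exact ⟨fun hE => hcb hE.symm, fun hE => hsb hE.symm⟩
      · simp only [Finset.mem_insert, Finset.mem_singleton, not_or]
        exact ⟨fun hE => hba hE.symm, fun hE => hca hE.symm, fun hE => hsa hE.symm⟩
      · simp only [Finset.mem_insert, Finset.mem_singleton, not_or]
        exact ⟨fun hE => ha1 hE.symm, fun hE => hb1 hE.symm, fun hE => hc1 hE.symm,
          fun hE => hs1 hE.symm⟩
    have hsub : ({1, a, b, c, s} : Finset G) ⊆ Finset.univ.filter (· ∈ (S : Subgroup G)) := by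
      intro w hw
      simp only [Finset.mem_insert, Finset.mem_singleton] at hw
      rw [Finset.mem_filter]
      refine ⟨Finset.mem_univ _, ?_⟩
      rcases hw with rfl | rfl | rfl | rfl | rfl
      · exact one_mem _
      · exact haS
      · exact hbS
      · exact hcS
      · exact hs
    have hle := Finset.card_le_card hsub
    rw [hF, ← Fintype.card_subtype, ← Nat.card_eq_fintype_card] at hle
    have : Nat.card {x // x ∈ (S : Subgroup G)} = 4 := hcard
    omega
  have hab : orderOf b = orderOf a := by rw [hb]; exact order_conj x a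
  have hcb' : orderOf c = orderOf b := by rw [hc]; exact order_conj x b
  obtain ⟨u', hu'⟩ := exists_prime_orderOf_dvd_card' (G := ↥(S : Subgroup G)) 2
    (by rw [hcard]; norm_num)
  have hu2 : orderOf (u' : G) = 2 := by rw [Subgroup.orderOf_coe]; exact hu'
  have hu1 : (u' : G) ≠ 1 := by
    intro h0
    rw [h0, orderOf_one] at hu2
    omega
  have horda : orderOf a = 2 := by
    rcases key _ u'.2 hu1 with hE | hE | hE
    · rw [← hE]; exact hu2
    · rw [← hab, ← hE]; exact hu2
    · rw [← hab, ← hcb', ← hE]; exact hu2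
  refine ⟨a, haS, horda, fun s hs hs1 => ?_⟩
  rcases key s hs hs1 with hE | hE | hE
  · exact ⟨1, by rw [hE]; simp⟩
  · exact ⟨x, by rw [hE, hb]⟩
  · exact ⟨x * x, by rw [hE, hc, hb]; group⟩

theorem sylow_order (S : Sylow 2 G) : ∀ s ∈ (S : Subgroup G), s ≠ 1 → orderOf s = 2 := by
  obtain ⟨a, -, ha2, hall⟩ := exists_fusion h S
  intro s hs hs1
  obtain ⟨g, rfl⟩ := hall s hs hs1
  rw [order_conj]
  exact ha2

theorem invol_conj {u v : G} (hu : orderOf u = 2) (hv : orderOf v = 2) :
    ∃ g : G, v = g * u * g⁻¹ := by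
  haveI : Fact (Nat.Prime 2) := ⟨Nat.prime_two⟩
  obtain ⟨S⟩ : Nonempty (Sylow 2 G) := inferInstance
  obtain ⟨a, -, ha2, hall⟩ := exists_fusion h S
  have key : ∀ w : G, orderOf w = 2 → ∃ g : G, w = g * a * g⁻¹ := by
    intro w hw
    have hp : IsPGroup 2 (Subgroup.zpowers w) := by
      apply isPGroup_zpowers (k := 1)
      rw [pow_one, ← hw]
      exact pow_orderOf_eq_one w
    obtain ⟨g, hg⟩ := exists_conj_mem_sylow 2 S hp
    have hne : g⁻¹ * w * g ≠ 1 := by
      intro h0
      have : w = 1 := by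
        have h1 : w = g * (g⁻¹ * w * g) * g⁻¹ := by group
        rw [h1, h0]; group
      rw [this, orderOf_one] at hw
      omega
    obtain ⟨k, hk⟩ := hall _ hg hne
    refine ⟨g * k, ?_⟩
    have h1 : w = g * (g⁻¹ * w * g) * g⁻¹ := by group
    rw [h1, hk]
    group
  obtain ⟨g₁, h1⟩ := key u hu
  obtain ⟨g₂, h2⟩ := key v hv
  refine ⟨g₂ * g₁⁻¹, ?_⟩
  rw [h2, h1]
  group

theorem isKleinFour (S : Sylow 2 G) : IsKleinFour (S : Subgroup G) := by
  refine ⟨card_sylow h S, ?_⟩
  have h1 : Monoid.exponent (S : Subgroup G) ∣ 2 := by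
    apply Monoid.exponent_dvd_of_forall_pow_eq_one
    intro s
    by_cases hs1 : (s : G) = 1
    · have : s = 1 := Subtype.ext hs1
      rw [this, one_pow]
    · have h2 := sylow_order h S s s.2 hs1
      apply Subtype.ext
      rw [Subgroup.coe_pow, Subgroup.coe_one]
      have h3 := pow_orderOf_eq_one (s : G)
      rw [h2] at h3
      exact h3
  rcases (Nat.dvd_prime Nat.prime_two).1 h1 with h2 | h2
  · exfalso
    rw [Monoid.exp_eq_one_iff] at h2
    have := card_sylow h S
    rw [Nat.card_eq_one_iff_unique.2 ⟨h2, ⟨1⟩⟩] at this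
    omega
  · exact h2

/-- A second involution commuting with a given involution inside a Sylow 2-subgroup. -/
theorem exists_other (S : Sylow 2 G) (t : G) :
    ∃ s ∈ (S : Subgroup G), orderOf s = 2 ∧ s ≠ t := by
  classical
  haveI := Fintype.ofFinite G
  by_contra hcon
  have hsub : Finset.univ.filter (· ∈ (S : Subgroup G)) ⊆ ({1, t} : Finset G) := by
    intro w hw
    rw [Finset.mem_filter] at hw
    simp only [Finset.mem_insert, Finset.mem_singleton]
    by_cases hw1 : w = 1
    · exact Or.inl hw1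
    · right
      by_contra hwt
      exact hcon ⟨w, hw.2, sylow_order h S w hw.2 hw1, hwt⟩
  have hle := Finset.card_le_card hsub
  rw [← Fintype.card_subtype, ← Nat.card_eq_fintype_card] at hle
  have h4 : Nat.card {x // x ∈ (S : Subgroup G)} = 4 := card_sylow h S
  have h2 : ({1, t} : Finset G).card ≤ 2 := Finset.card_insert_le _ _
  omega

theorem exists_sylow_mem {t : G} (ht : orderOf t = 2) : ∃ S : Sylow 2 G, t ∈ (S : Subgroup G) := by
  haveI : Fact (Nat.Prime 2) := ⟨Nat.prime_two⟩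
  have hp : IsPGroup 2 (Subgroup.zpowers t) := by
    apply isPGroup_zpowers (k := 1)
    rw [pow_one, ← ht]
    exact pow_orderOf_eq_one t
  obtain ⟨S, hS⟩ := hp.exists_le_sylow
  exact ⟨S, hS (Subgroup.mem_zpowers t)⟩

theorem exists_other_invol {t : G} (ht : orderOf t = 2) :
    ∃ s : G, orderOf s = 2 ∧ s ≠ t ∧ s * t = t * s := by
  obtain ⟨S, hS⟩ := exists_sylow_mem h ht
  obtain ⟨s, hs, hs2, hst⟩ := exists_other h S t
  exact ⟨s, hs2, hst, sylow_comm h S s hs t hS⟩

theorem two_elt_sq {w : G} (hw : w ^ 4 = 1) : w ^ 2 = 1 := by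
  haveI : Fact (Nat.Prime 2) := ⟨Nat.prime_two⟩
  have hp : IsPGroup 2 (Subgroup.zpowers w) := isPGroup_zpowers (k := 2) (by simpa using hw)
  obtain ⟨S, hS⟩ := hp.exists_le_sylow
  by_cases hw1 : w = 1
  · rw [hw1, one_pow]
  · rw [← sylow_order h S w (hS (Subgroup.mem_zpowers w)) hw1]
    exact pow_orderOf_eq_one w

end Two

section Three

variable (P : Sylow 3 G)

/-- The centralizer of `P`. -/
abbrev Cn : Subgroup G := Subgroup.centralizer ((P : Subgroup G) : Set G)

/-- The normalizer of `P`. -/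
abbrev Nn : Subgroup G := Subgroup.normalizer ((P : Subgroup G) : Set G)

/-- The data of the problem. -/
structure Data : Prop where
  hyp : Hyp G (Nat.card P)
  comm : ∀ a ∈ (P : Subgroup G), ∀ b ∈ (P : Subgroup G), a * b = b * a
  cardN : Nat.card (Nn P) = 4 * Nat.card P
  cardC : Nat.card (Cn P) = 2 * Nat.card P
  ti : ∀ g : G, g ∉ Subgroup.normalizer ((Cn P : Subgroup G) : Set G) →
    ∀ x ∈ Cn P, g * x * g⁻¹ ∈ Cn P → x = 1

variable {P} (d : Data P)
include d

theorem P_le_Cn : (P : Subgroup G) ≤ Cn P := by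
  intro x hx
  rw [Subgroup.mem_centralizer_iff]
  intro p hp
  exact d.comm p hp x hx

theorem Cn_le_Nn : Cn P ≤ Nn P := by
  intro c hc
  apply mem_normalizer_of_conj_mem
  intro p hp
  have h1 : p * c = c * p := Subgroup.mem_centralizer_iff.1 hc p hp
  have h2 : c * p * c⁻¹ = p := by rw [← h1, mul_inv_cancel_right]
  rw [h2]
  exact hp

theorem gcd_two : Nat.gcd 2 (Nat.card P) = 1 := Nat.coprime_two_left.2 d.hyp.odd

theorem eq_one_of_sq {x : G} (hx : x ∈ (P : Subgroup G)) (h2 : x * x = 1) : x = 1 := by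
  have h3 : orderOf x ∣ 2 := orderOf_dvd_of_pow_eq_one (by rw [pow_two]; exact h2)
  have h4 : orderOf x ∣ Nat.card P := Subgroup.orderOf_dvd_natCard _ hx
  have h5 : orderOf x ∣ 1 := by rw [← gcd_two d]; exact Nat.dvd_gcd h3 h4
  exact orderOf_eq_one_iff.1 (Nat.dvd_one.1 h5)

theorem Nn_conj_Cn : ∀ g ∈ Nn P, ∀ c ∈ Cn P, g * c * g⁻¹ ∈ Cn P := by
  intro g hg c hc
  rw [Subgroup.mem_centralizer_iff]
  intro p hp
  have hp' : g⁻¹ * p * g ∈ (P : Subgroup G) := by
    apply (Subgroup.mem_normalizer_iff.1 hg _).2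
    have : g * (g⁻¹ * p * g) * g⁻¹ = p := by group
    rw [this]
    exact hp
  have h1 : g⁻¹ * p * g * c = c * (g⁻¹ * p * g) := Subgroup.mem_centralizer_iff.1 hc _ hp'
  calc p * (g * c * g⁻¹) = g * (g⁻¹ * p * g * c) * g⁻¹ := by group
    _ = g * (c * (g⁻¹ * p * g)) * g⁻¹ := by rw [h1]
    _ = g * c * g⁻¹ * p := by group

theorem three_mem {x : G} (hx : x ∈ Nn P) (hxq : x ^ Nat.card P = 1) :
    x ∈ (P : Subgroup G) := by
  haveI : Fact (Nat.Prime 3) := ⟨Nat.prime_three⟩
  obtain ⟨k, hk⟩ := IsPGroup.iff_card.mp P.isPGroup'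
  rw [hk] at hxq
  exact mem_sylow_of_normalizer 3 P hx (isPGroup_zpowers hxq)

theorem index_two {a b : G} (ha : a ∈ Nn P) (hb : b ∈ Nn P) (haC : a ∉ Cn P) (hbC : b ∉ Cn P) :
    a * b ∈ Cn P := by
  have hidx : ((Cn P).subgroupOf (Nn P)).index = 2 := by
    have h1 := Subgroup.card_mul_index ((Cn P).subgroupOf (Nn P))
    have h2 : Nat.card ((Cn P).subgroupOf (Nn P)) = Nat.card (Cn P) :=
      Nat.card_congr (Subgroup.subgroupOfEquivOfLe (Cn_le_Nn d)).toEquiv
    rw [h2, d.cardC, d.cardN] at h1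
    have hpos : 0 < 2 * Nat.card P := by
      have := Nat.card_pos (α := P)
      omega
    have h3 : 2 * Nat.card P * ((Cn P).subgroupOf (Nn P)).index = 2 * Nat.card P * 2 := by
      rw [h1]; ring
    exact Nat.eq_of_mul_eq_mul_left hpos h3
  have h3 := (Subgroup.mul_mem_iff_of_index_two hidx (a := (⟨a, ha⟩ : Nn P)) (b := ⟨b, hb⟩)).2
    ⟨fun h => absurd (Subgroup.mem_subgroupOf.1 h) haC,
     fun h => absurd (Subgroup.mem_subgroupOf.1 h) hbC⟩
  exact Subgroup.mem_subgroupOf.1 h3

theorem exists_t : ∃ t ∈ Cn P, orderOf t = 2 := by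
  haveI : Fact (Nat.Prime 2) := ⟨Nat.prime_two⟩
  obtain ⟨t', ht'⟩ := exists_prime_orderOf_dvd_card' (G := ↥(Cn P)) 2
    (by rw [d.cardC]; exact dvd_mul_right 2 _)
  exact ⟨t', t'.2, by rw [Subgroup.orderOf_coe]; exact ht'⟩

variable {t : G} (ht : t ∈ Cn P) (ht2 : orderOf t = 2)
include ht ht2

theorem t_sq : t * t = 1 := by
  rw [← pow_two, ← ht2]
  exact pow_orderOf_eq_one t

theorem t_ne_one : t ≠ 1 := by
  rintro rfl
  rw [orderOf_one] at ht2
  omega

theorem t_not_mem : t ∉ (P : Subgroup G) := fun hmem =>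
  t_ne_one d ht ht2 (eq_one_of_sq d hmem (t_sq d ht ht2))

theorem decomp : ∀ c ∈ Cn P, c ∈ (P : Subgroup G) ∨ t * c ∈ (P : Subgroup G) := by
  intro c hc
  have hidx : ((P : Subgroup G).subgroupOf (Cn P)).index = 2 := by
    have h1 := Subgroup.card_mul_index ((P : Subgroup G).subgroupOf (Cn P))
    have h2 : Nat.card ((P : Subgroup G).subgroupOf (Cn P)) = Nat.card P :=
      Nat.card_congr (Subgroup.subgroupOfEquivOfLe (P_le_Cn d)).toEquiv
    rw [h2, d.cardC] at h1
    have hpos : 0 < Nat.card P := Nat.card_pos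
    have h3 : Nat.card P * ((P : Subgroup G).subgroupOf (Cn P)).index = Nat.card P * 2 := by
      rw [h1]; ring
    exact Nat.eq_of_mul_eq_mul_left hpos h3
  by_cases hcP : c ∈ (P : Subgroup G)
  · exact Or.inl hcP
  · right
    have h3 := (Subgroup.mul_mem_iff_of_index_two hidx (a := (⟨t, ht⟩ : Cn P)) (b := ⟨c, hc⟩)).2
      ⟨fun h => absurd (Subgroup.mem_subgroupOf.1 h) (t_not_mem d ht ht2),
       fun h => absurd (Subgroup.mem_subgroupOf.1 h) hcP⟩
    exact Subgroup.mem_subgroupOf.1 h3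

theorem t_comm : ∀ c ∈ Cn P, c * t = t * c := by
  intro c hc
  have hP : ∀ p ∈ (P : Subgroup G), p * t = t * p := Subgroup.mem_centralizer_iff.1 ht
  rcases decomp d ht ht2 c hc with h1 | h1
  · exact hP c h1
  · have h2 := hP _ h1
    rw [mul_assoc] at h2
    exact mul_left_cancel h2

theorem unique_invol : ∀ c ∈ Cn P, orderOf c = 2 → c = t := by
  intro c hc hc2
  have hcc : c * c = 1 := by
    rw [← pow_two, ← hc2]
    exact pow_orderOf_eq_one c
  rcases decomp d ht ht2 c hc with h1 | h1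
  · exfalso
    have := eq_one_of_sq d h1 hcc
    rw [this, orderOf_one] at hc2
    omega
  · have hct := t_comm d ht ht2 c hc
    have h2 : (t * c) * (t * c) = 1 := by
      calc (t * c) * (t * c) = t * (c * t) * c := by group
        _ = t * (t * c) * c := by rw [hct]
        _ = (t * t) * (c * c) := by group
        _ = 1 := by rw [t_sq d ht ht2, hcc, one_mul]
    have h3 := eq_one_of_sq d h1 h2
    have h4 : t * c = t * t := by rw [h3, t_sq d ht ht2]
    exact mul_left_cancel h4

theorem Nn_le_cent : Nn P ≤ Subgroup.centralizer ({t} : Set G) := by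
  intro g hg
  rw [Subgroup.mem_centralizer_singleton_iff]
  have h1 := unique_invol d ht ht2 _ (Nn_conj_Cn d g hg t ht) (by rw [order_conj]; exact ht2)
  exact mul_inv_eq_iff_eq_mul.1 h1

theorem cent_t_eq : Subgroup.centralizer ({t} : Set G) = Nn P := by
  have hle := Nn_le_cent d ht ht2
  have htm : t ∈ Subgroup.centralizer ({t} : Set G) :=
    Subgroup.mem_centralizer_singleton_iff.2 rfl
  have hd : Nat.card (Subgroup.centralizer ({t} : Set G)) ∣ 4 * Nat.card P :=
    d.hyp.even _ (centralizer_ne_top d.hyp (t_ne_one d ht ht2))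
      (by rw [← ht2]; exact Subgroup.orderOf_dvd_natCard _ htm)
  have hle2 : Nat.card (Subgroup.centralizer ({t} : Set G)) ≤ Nat.card (Nn P) := by
    rw [d.cardN]
    exact Nat.le_of_dvd (by have := Nat.card_pos (α := P); omega) hd
  exact (Subgroup.eq_of_le_of_card_ge hle hle2).symm

theorem card_cent_t : Nat.card (Subgroup.centralizer ({t} : Set G)) = 4 * Nat.card P := by
  rw [cent_t_eq d ht ht2, d.cardN]

theorem factF {y : G} (hy : y ∈ (P : Subgroup G)) (hy1 : y ≠ 1) {u : G} (hu : orderOf u = 2)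
    (huy : u * y = y * u) : u = t := by
  obtain ⟨g, hg⟩ := invol_conj d.hyp ht2 hu
  have hxt : (g⁻¹ * y * g) * t = t * (g⁻¹ * y * g) := by
    calc (g⁻¹ * y * g) * t = g⁻¹ * (y * (g * t * g⁻¹)) * g := by group
      _ = g⁻¹ * ((g * t * g⁻¹) * y) * g := by rw [← hg, huy]
      _ = t * (g⁻¹ * y * g) := by group
  have hxN : g⁻¹ * y * g ∈ Nn P := by
    rw [← cent_t_eq d ht ht2]
    exact Subgroup.mem_centralizer_singleton_iff.2 hxt
  have hxq : (g⁻¹ * y * g) ^ Nat.card P = 1 := by
    have e : g⁻¹ * y * g = g⁻¹ * y * g⁻¹⁻¹ := by rw [inv_inv]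
    rw [e, conj_pow, pow_card_of_mem _ hy]
    group
  have hxP := three_mem d hxN hxq
  have hx1 : g⁻¹ * y * g ≠ 1 := by
    intro h0
    apply hy1
    have : y = g * (g⁻¹ * y * g) * g⁻¹ := by group
    rw [this, h0]
    group
  have hgn : g ∈ Subgroup.normalizer ((Cn P : Subgroup G) : Set G) := by
    by_contra hgn
    apply hx1
    apply d.ti g hgn _ (P_le_Cn d hxP)
    have : g * (g⁻¹ * y * g) * g⁻¹ = y := by group
    rw [this]
    exact P_le_Cn d hy
  have h1 : g * t * g⁻¹ ∈ Cn P := (Subgroup.mem_normalizer_iff.1 hgn t).1 ht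
  rw [hg]
  exact unique_invol d ht ht2 _ h1 (by rw [order_conj]; exact ht2)

theorem factF2 {y : G} (hy : y ∈ (P : Subgroup G)) (hy1 : y ≠ 1) {c : G}
    (hcy : c * y = y * c) : c ∈ Cn P := by
  have hty : Commute t y := (Subgroup.mem_centralizer_iff.1 ht y hy).symm
  have hc : Commute c y := hcy
  have h1 : c * t * c⁻¹ = t :=
    factF d ht ht2 hy hy1 (by rw [order_conj]; exact ht2)
      ((hc.mul_left hty).mul_left hc.inv_left).eq
  have hcN : c ∈ Nn P := by
    rw [← cent_t_eq d ht ht2]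
    exact Subgroup.mem_centralizer_singleton_iff.2 (mul_inv_eq_iff_eq_mul.1 h1)
  by_contra hcC
  obtain ⟨s, hs2, hst, hsc⟩ := exists_other_invol d.hyp ht2
  have hsN : s ∈ Nn P := by
    rw [← cent_t_eq d ht ht2]
    exact Subgroup.mem_centralizer_singleton_iff.2 hsc
  have hsC : s ∉ Cn P := fun hsC => hst (unique_invol d ht ht2 s hsC hs2)
  have hsc' : s * c ∈ Cn P := index_two d hsN hcN hsC hcC
  have h2 : Commute (s * c) y := (Subgroup.mem_centralizer_iff.1 hsc' y hy).symm
  have h3 : Commute s y := by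
    have := h2.mul_left hc.inv_left
    rwa [mul_inv_cancel_right] at this
  exact hst (factF d ht ht2 hy hy1 hs2 h3.eq)

theorem card_cent_sylow (S : Sylow 2 G) (htS : t ∈ (S : Subgroup G)) :
    Nat.card (Subgroup.centralizer ((S : Subgroup G) : Set G)) = 4 := by
  haveI : Fact (Nat.Prime 3) := ⟨Nat.prime_three⟩
  have hSZ : (S : Subgroup G) ≤ Subgroup.centralizer ((S : Subgroup G) : Set G) := by
    intro s hs
    rw [Subgroup.mem_centralizer_iff]
    intro s' hs'
    exact sylow_comm d.hyp S s' hs' s hs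
  have h4 : 4 ∣ Nat.card (Subgroup.centralizer ((S : Subgroup G) : Set G)) := by
    have := Subgroup.card_dvd_of_le hSZ
    rwa [card_sylow d.hyp S] at this
  have hZN : Subgroup.centralizer ((S : Subgroup G) : Set G) ≤ Nn P := by
    intro c hc
    rw [← cent_t_eq d ht ht2, Subgroup.mem_centralizer_singleton_iff]
    exact (Subgroup.mem_centralizer_iff.1 hc t htS).symm
  have hdvd : Nat.card (Subgroup.centralizer ((S : Subgroup G) : Set G)) ∣ 4 * Nat.card P := by
    have := Subgroup.card_dvd_of_le hZN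
    rwa [d.cardN] at this
  have h3 : ¬ 3 ∣ Nat.card (Subgroup.centralizer ((S : Subgroup G) : Set G)) := by
    intro h3
    obtain ⟨y', hy'⟩ := exists_prime_orderOf_dvd_card'
      (G := ↥(Subgroup.centralizer ((S : Subgroup G) : Set G))) 3 h3
    have hy3 : orderOf (y' : G) = 3 := by rw [Subgroup.orderOf_coe]; exact hy'
    have hyP : (y' : G) ∈ (P : Subgroup G) := by
      apply mem_sylow_of_normalizer 3 P (hZN y'.2)
      apply isPGroup_zpowers (k := 1)
      have h5 := pow_orderOf_eq_one (y' : G)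
      rw [hy3] at h5
      simpa using h5
    have hy1 : (y' : G) ≠ 1 := by
      intro h0
      rw [h0, orderOf_one] at hy3
      omega
    obtain ⟨s, hs, hs2, hst⟩ := exists_other d.hyp S t
    have hsy : s * (y' : G) = (y' : G) * s := Subgroup.mem_centralizer_iff.1 y'.2 s hs
    exact hst (factF d ht ht2 hyP hy1 hs2 hsy)
  obtain ⟨k, hk⟩ := IsPGroup.iff_card.mp P.isPGroup'
  have hcop : Nat.Coprime (Nat.card (Subgroup.centralizer ((S : Subgroup G) : Set G)))
      (Nat.card P) := by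
    rw [hk]
    exact Nat.Coprime.pow_right _ ((Nat.Prime.coprime_iff_not_dvd Nat.prime_three).2 h3).symm
  exact Nat.dvd_antisymm (hcop.dvd_of_dvd_mul_right hdvd) h4

theorem key_pair {v : G} (hv2 : orderOf v = 2) (hvt : v * t ≠ t * v) :
    ∃ g : G, (g * t * g⁻¹) * t = t * (g * t * g⁻¹) ∧ g * t * g⁻¹ ≠ t ∧
      g⁻¹ * (t * v) * g ∈ Cn P := by
  haveI : Fact (Nat.Prime 3) := ⟨Nat.prime_three⟩
  haveI := d.hyp.simple
  have htt := t_sq d ht ht2
  have hvv : v * v = 1 := by
    rw [← pow_two, ← hv2]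
    exact pow_orderOf_eq_one v
  have htinv : t⁻¹ = t := inv_eq_of_mul_eq_one_left htt
  have hvinv : v⁻¹ = v := inv_eq_of_mul_eq_one_left hvv
  obtain ⟨z, hz⟩ : ∃ z : G, z = t * v := ⟨_, rfl⟩
  have hzinv : z⁻¹ = v * t := by rw [hz, mul_inv_rev, htinv, hvinv]
  have htz : t * z * t⁻¹ = z⁻¹ := by
    rw [hzinv, hz, htinv, ← mul_assoc, htt, one_mul]
  have hz2 : z * z ≠ 1 := by
    intro h0
    apply hvt
    have h1 : z⁻¹ = z := inv_eq_of_mul_eq_one_left h0
    rw [hzinv, hz] at h1
    exact h1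
  have hz1 : z ≠ 1 := by
    intro h0
    rw [h0, one_mul] at hz2
    exact hz2 rfl
  have htH : t ∈ Subgroup.normalizer ((Subgroup.zpowers z : Subgroup G) : Set G) := by
    apply mem_normalizer_of_conj_mem
    intro w hw
    obtain ⟨i, rfl⟩ := Subgroup.mem_zpowers_iff.1 hw
    rw [← conj_zpow, htz]
    exact zpow_mem (inv_mem (Subgroup.mem_zpowers z)) i
  have hzH : z ∈ Subgroup.normalizer ((Subgroup.zpowers z : Subgroup G) : Set G) :=
    Subgroup.le_normalizer (Subgroup.mem_zpowers z)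
  have hHtop : Subgroup.normalizer ((Subgroup.zpowers z : Subgroup G) : Set G) ≠ ⊤ := by
    intro htop
    have hn : (Subgroup.zpowers z).Normal := Subgroup.normalizer_eq_top_iff.1 htop
    rcases hn.eq_bot_or_eq_top with h0 | h0
    · exact hz1 (Subgroup.zpowers_eq_bot.1 h0)
    · apply hz1
      apply central_eq_one d.hyp
      intro g
      have hg : g ∈ Subgroup.zpowers z := by rw [h0]; trivial
      obtain ⟨i, rfl⟩ := Subgroup.mem_zpowers_iff.1 hg
      exact (Commute.zpow_left (Commute.refl z) i).eq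
  have h2H : 2 ∣ Nat.card (Subgroup.normalizer ((Subgroup.zpowers z : Subgroup G) : Set G)) := by
    rw [← ht2]
    exact Subgroup.orderOf_dvd_natCard _ htH
  have hHd := d.hyp.even _ hHtop h2H
  have hz4q : z ^ (4 * Nat.card P) = 1 :=
    orderOf_dvd_iff_pow_eq_one.1 ((Subgroup.orderOf_dvd_natCard _ hzH).trans hHd)
  have hw2 : (z ^ Nat.card P) ^ 2 = 1 := by
    apply two_elt_sq d.hyp
    rw [← pow_mul, mul_comm]
    exact hz4q
  have hyq : (z * z) ^ Nat.card P = 1 := by
    rw [← pow_two, ← pow_mul, mul_comm, pow_mul]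
    exact hw2
  obtain ⟨k, hk⟩ := IsPGroup.iff_card.mp P.isPGroup'
  have hp : IsPGroup 3 (Subgroup.zpowers (z * z)) := by
    apply isPGroup_zpowers (k := k)
    rw [← hk]
    exact hyq
  obtain ⟨g, hg⟩ := exists_conj_mem_sylow 3 P hp
  obtain ⟨y₀, hy₀⟩ : ∃ y₀ : G, y₀ = g⁻¹ * (z * z) * g := ⟨_, rfl⟩
  obtain ⟨t₀, ht₀⟩ : ∃ t₀ : G, t₀ = g⁻¹ * t * g := ⟨_, rfl⟩
  obtain ⟨z₀, hz₀⟩ : ∃ z₀ : G, z₀ = g⁻¹ * z * g := ⟨_, rfl⟩
  rw [← hy₀] at hg
  have hy₀1 : y₀ ≠ 1 := by
    intro h0
    apply hz2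
    have : z * z = g * y₀ * g⁻¹ := by rw [hy₀]; group
    rw [this, h0]
    group
  have hty : t₀ * y₀ * t₀⁻¹ = y₀⁻¹ := by
    have h1 : t * (z * z) * t⁻¹ = (z * z)⁻¹ := by
      calc t * (z * z) * t⁻¹ = (t * z * t⁻¹) * (t * z * t⁻¹) := by group
        _ = (z * z)⁻¹ := by rw [htz, mul_inv_rev]
    calc t₀ * y₀ * t₀⁻¹ = g⁻¹ * (t * (z * z) * t⁻¹) * g := by rw [ht₀, hy₀]; group
      _ = y₀⁻¹ := by rw [h1, hy₀]; group
  have hcty : Commute t y₀ := (Subgroup.mem_centralizer_iff.1 ht y₀ hg).symm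
  have h7 : t₀ * t * t₀⁻¹ = t := by
    apply factF d ht ht2 hg hy₀1 (by rw [order_conj]; exact ht2)
    have h1 : Commute (t₀ * t * t₀⁻¹) (t₀ * y₀ * t₀⁻¹) := by
      show _ = _
      calc t₀ * t * t₀⁻¹ * (t₀ * y₀ * t₀⁻¹) = t₀ * (t * y₀) * t₀⁻¹ := by group
        _ = t₀ * (y₀ * t) * t₀⁻¹ := by rw [hcty.eq]
        _ = t₀ * y₀ * t₀⁻¹ * (t₀ * t * t₀⁻¹) := by group
    rw [hty] at h1
    exact (Commute.inv_right_iff.1 h1).eq
  have h8 : t₀ ≠ t := by
    intro h0
    rw [h0] at hty
    have h1 : y₀ = y₀⁻¹ := by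
      rw [← hty, hcty.eq, mul_inv_cancel_right]
    have h2 : y₀ * y₀ = 1 := by
      have h3 := inv_mul_cancel y₀
      rw [← h1] at h3
      exact h3
    exact hy₀1 (eq_one_of_sq d hg h2)
  have hzy : z₀ * y₀ = y₀ * z₀ := by
    rw [hz₀, hy₀]
    group
  have hz₀C : z₀ ∈ Cn P := factF2 d ht ht2 hg hy₀1 hzy
  refine ⟨g, ?_, ?_, ?_⟩
  · have h9 : t₀ * t = t * t₀ := mul_inv_eq_iff_eq_mul.1 h7
    calc g * t * g⁻¹ * t = g * (t * t₀) * g⁻¹ := by rw [ht₀]; group
      _ = g * (t₀ * t) * g⁻¹ := by rw [h9]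
      _ = t * (g * t * g⁻¹) := by rw [ht₀]; group
  · intro h0
    apply h8
    rw [ht₀]
    have h1 : g * t = t * g := mul_inv_eq_iff_eq_mul.1 h0
    calc g⁻¹ * t * g = g⁻¹ * (t * g) := by group
      _ = g⁻¹ * (g * t) := by rw [h1]
      _ = t := by group
  · rw [← hz, ← hz₀]
    exact hz₀C

theorem card_invol_le :
    Nat.card {v : G // orderOf v = 2} ≤
      1 + 2 * Nat.card P + 2 * Nat.card P * (2 * Nat.card P - 2) := by
  classical
  haveI := Fintype.ofFinite G
  have hcardF : ∀ H : Subgroup G, (Finset.univ.filter (· ∈ H)).card = Nat.card H := by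
    intro H
    rw [Nat.card_eq_fintype_card, Fintype.card_subtype]
  rw [Nat.card_eq_fintype_card, Fintype.card_subtype]
  obtain ⟨I1, hI1⟩ : ∃ I1 : Finset G, I1 = Finset.univ.filter
      (fun v => orderOf v = 2 ∧ v ≠ t ∧ v * t = t * v) := ⟨_, rfl⟩
  obtain ⟨I2, hI2⟩ : ∃ I2 : Finset G, I2 = Finset.univ.filter
      (fun v => orderOf v = 2 ∧ v * t ≠ t * v) := ⟨_, rfl⟩
  obtain ⟨B, hB⟩ : ∃ B : G → Finset G, B = fun u => Finset.univ.filter (fun c : G =>
      (∃ g : G, u = g * t * g⁻¹ ∧ g⁻¹ * c * g ∈ Cn P) ∧ c ≠ 1 ∧ c ≠ u) := ⟨_, rfl⟩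
  have hsub : Finset.univ.filter (fun v : G => orderOf v = 2) ⊆ ({t} ∪ I1) ∪ I2 := by
    intro v hv
    rw [Finset.mem_filter] at hv
    rw [Finset.mem_union, Finset.mem_union, Finset.mem_singleton, hI1, hI2, Finset.mem_filter,
      Finset.mem_filter]
    by_cases h1 : v = t
    · exact Or.inl (Or.inl h1)
    · by_cases h2 : v * t = t * v
      · exact Or.inl (Or.inr ⟨Finset.mem_univ _, hv.2, h1, h2⟩)
      · exact Or.inr ⟨Finset.mem_univ _, hv.2, h2⟩
  have hI1card : I1.card ≤ 2 * Nat.card P := by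
    have hs : I1 ⊆ Finset.univ.filter (· ∈ Nn P) \ Finset.univ.filter (· ∈ Cn P) := by
      intro v hv
      rw [hI1, Finset.mem_filter] at hv
      obtain ⟨-, hv2, hvt, hvc⟩ := hv
      rw [Finset.mem_sdiff, Finset.mem_filter, Finset.mem_filter]
      refine ⟨⟨Finset.mem_univ _, ?_⟩, ?_⟩
      · rw [← cent_t_eq d ht ht2]
        exact Subgroup.mem_centralizer_singleton_iff.2 hvc
      · rintro ⟨-, hvC⟩
        exact hvt (unique_invol d ht ht2 v hvC hv2)
    have hle := Finset.card_le_card hs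
    have hsubs : Finset.univ.filter (· ∈ Cn P) ⊆ Finset.univ.filter (· ∈ Nn P) := by
      intro w hw
      rw [Finset.mem_filter] at hw ⊢
      exact ⟨hw.1, Cn_le_Nn d hw.2⟩
    rw [Finset.card_sdiff_of_subset hsubs, hcardF, hcardF, d.cardN, d.cardC] at hle
    omega
  have hBcard : ∀ u : G, (B u).card ≤ 2 * Nat.card P - 2 := by
    intro u
    by_cases hex : ∃ g₀ : G, u = g₀ * t * g₀⁻¹
    · obtain ⟨g₀, hg₀⟩ := hex
      have hs : B u ⊆ (Finset.univ.filter (· ∈ Cn P) \ {1, t}).image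
          (fun c => g₀ * c * g₀⁻¹) := by
        intro c hc
        rw [hB, Finset.mem_filter] at hc
        obtain ⟨-, ⟨g, hg, hgc⟩, hc1, hcu⟩ := hc
        rw [Finset.mem_image]
        refine ⟨g₀⁻¹ * c * g₀, ?_, by group⟩
        rw [Finset.mem_sdiff, Finset.mem_filter, Finset.mem_insert, Finset.mem_singleton, not_or]
        refine ⟨⟨Finset.mem_univ _, ?_⟩, ?_, ?_⟩
        · have hn : g₀⁻¹ * g ∈ Nn P := by
            rw [← cent_t_eq d ht ht2, Subgroup.mem_centralizer_singleton_iff]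
            have h1 : g * t * g⁻¹ = g₀ * t * g₀⁻¹ := hg.symm.trans hg₀
            calc g₀⁻¹ * g * t = g₀⁻¹ * (g * t * g⁻¹) * g := by group
              _ = g₀⁻¹ * (g₀ * t * g₀⁻¹) * g := by rw [h1]
              _ = t * (g₀⁻¹ * g) := by group
          have h2 := Nn_conj_Cn d _ hn _ hgc
          have h3 : g₀⁻¹ * g * (g⁻¹ * c * g) * (g₀⁻¹ * g)⁻¹ = g₀⁻¹ * c * g₀ := by group
          rw [h3] at h2
          exact h2
        · intro h0
          apply hc1
          have : c = g₀ * (g₀⁻¹ * c * g₀) * g₀⁻¹ := by group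
          rw [this, h0]
          group
        · intro h0
          apply hcu
          have : c = g₀ * (g₀⁻¹ * c * g₀) * g₀⁻¹ := by group
          rw [this, h0, hg₀]
      have hle := (Finset.card_le_card hs).trans Finset.card_image_le
      have hpair : ({1, t} : Finset G) ⊆ Finset.univ.filter (· ∈ Cn P) := by
        intro w hw
        rw [Finset.mem_insert, Finset.mem_singleton] at hw
        rw [Finset.mem_filter]
        rcases hw with rfl | rfl
        · exact ⟨Finset.mem_univ _, one_mem _⟩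
        · exact ⟨Finset.mem_univ _, ht⟩
      rw [Finset.card_sdiff_of_subset hpair, hcardF, d.cardC,
        Finset.card_pair (Ne.symm (t_ne_one d ht ht2))] at hle
      exact hle
    · have : B u = ∅ := by
        rw [hB]
        apply Finset.filter_eq_empty_iff.2
        intro c _ hc
        obtain ⟨⟨g, hg, -⟩, -⟩ := hc
        exact hex ⟨g, hg⟩
      rw [this, Finset.card_empty]
      exact Nat.zero_le _
  have hI2card : I2.card ≤ I1.card * (2 * Nat.card P - 2) := by
    have hs : I2 ⊆ (I1.biUnion B).image (fun z => t * z) := by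
      intro v hv
      rw [hI2, Finset.mem_filter] at hv
      obtain ⟨-, hv2, hvt⟩ := hv
      obtain ⟨g, hg1, hg2, hg3⟩ := key_pair d ht ht2 hv2 hvt
      rw [Finset.mem_image]
      refine ⟨t * v, ?_, by rw [← mul_assoc, t_sq d ht ht2, one_mul]⟩
      rw [Finset.mem_biUnion]
      refine ⟨g * t * g⁻¹, ?_, ?_⟩
      · rw [hI1, Finset.mem_filter]
        exact ⟨Finset.mem_univ _, by rw [order_conj]; exact ht2, hg2, hg1⟩
      · rw [hB, Finset.mem_filter]
        refine ⟨Finset.mem_univ _, ⟨g, rfl, hg3⟩, ?_, ?_⟩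
        · intro h0
          apply hvt
          have : v = t := by
            have h1 : t * v = t * t := by rw [h0, t_sq d ht ht2]
            exact mul_left_cancel h1
          rw [this]
        · intro h0
          apply hvt
          have h1 : orderOf (t * v) = 2 := by rw [h0, order_conj]; exact ht2
          have h2 : (t * v) * (t * v) = 1 := by
            rw [← pow_two, ← h1]
            exact pow_orderOf_eq_one _
          have hvv : v * v = 1 := by
            rw [← pow_two, ← hv2]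
            exact pow_orderOf_eq_one v
          calc v * t = (t * t) * (v * t) * (v * v) := by
                rw [t_sq d ht ht2, hvv, one_mul, mul_one]
            _ = t * ((t * v) * (t * v)) * v := by group
            _ = t * v := by rw [h2, mul_one]
    calc I2.card ≤ (I1.biUnion B).card := (Finset.card_le_card hs).trans Finset.card_image_le
      _ ≤ ∑ u ∈ I1, (B u).card := Finset.card_biUnion_le
      _ ≤ ∑ _u ∈ I1, (2 * Nat.card P - 2) := Finset.sum_le_sum (fun u _ => hBcard u)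
      _ = I1.card * (2 * Nat.card P - 2) := by rw [Finset.sum_const, smul_eq_mul]
  calc (Finset.univ.filter (fun v : G => orderOf v = 2)).card
      ≤ (({t} ∪ I1) ∪ I2).card := Finset.card_le_card hsub
    _ ≤ ({t} ∪ I1).card + I2.card := Finset.card_union_le _ _
    _ ≤ (({t} : Finset G).card + I1.card) + I2.card :=
        Nat.add_le_add_right (Finset.card_union_le _ _) _
    _ ≤ (1 + 2 * Nat.card P) + 2 * Nat.card P * (2 * Nat.card P - 2) := by
        rw [Finset.card_singleton]
        exact Nat.add_le_add (Nat.add_le_add_left hI1card 1)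
          (hI2card.trans (Nat.mul_le_mul_right _ hI1card))

theorem card_eq :
    Nat.card G = Nat.card {v : G // orderOf v = 2} * (4 * Nat.card P) := by
  classical
  haveI := Fintype.ofFinite {v : G // orderOf v = 2}
  obtain ⟨f, hf⟩ : ∃ f : G → {v : G // orderOf v = 2}, ∀ g, (f g : G) = g * t * g⁻¹ :=
    ⟨fun g => ⟨g * t * g⁻¹, by rw [order_conj]; exact ht2⟩, fun g => rfl⟩
  have hfib : ∀ v, Nat.card {g : G // f g = v} = 4 * Nat.card P := by
    intro v
    obtain ⟨g₀, hg₀⟩ := invol_conj d.hyp ht2 v.2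
    rw [← card_cent_t d ht ht2]
    apply Nat.card_eq_of_bijective (f := fun g : {g : G // f g = v} =>
      (⟨g₀⁻¹ * g.1, by
        rw [Subgroup.mem_centralizer_singleton_iff]
        have h1 : g.1 * t * g.1⁻¹ = g₀ * t * g₀⁻¹ := by
          rw [← hf, g.2, hg₀]
        calc g₀⁻¹ * g.1 * t = g₀⁻¹ * (g.1 * t * g.1⁻¹) * g.1 := by group
          _ = g₀⁻¹ * (g₀ * t * g₀⁻¹) * g.1 := by rw [h1]
          _ = t * (g₀⁻¹ * g.1) := by group⟩ : Subgroup.centralizer ({t} : Set G)))
    constructor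
    · intro a b hab
      have h1 : g₀⁻¹ * a.1 = g₀⁻¹ * b.1 := congrArg Subtype.val hab
      exact Subtype.ext (mul_left_cancel h1)
    · intro c
      have hc := Subgroup.mem_centralizer_singleton_iff.1 c.2
      refine ⟨⟨g₀ * c.1, ?_⟩, ?_⟩
      · apply Subtype.ext
        rw [hf, hg₀]
        calc g₀ * c.1 * t * (g₀ * c.1)⁻¹ = g₀ * (c.1 * t) * (c.1)⁻¹ * g₀⁻¹ := by group
          _ = g₀ * (t * c.1) * (c.1)⁻¹ * g₀⁻¹ := by rw [hc]
          _ = g₀ * t * g₀⁻¹ := by group
      · apply Subtype.ext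
        show g₀⁻¹ * (g₀ * c.1) = c.1
        group
  rw [← Nat.card_congr (Equiv.sigmaFiberEquiv f), Nat.card_sigma,
    Finset.sum_congr rfl (fun v _ => hfib v), Finset.sum_const, Finset.card_univ,
    smul_eq_mul, Nat.card_eq_fintype_card (α := {v : G // orderOf v = 2})]

theorem card_le :
    Nat.card G ≤
      (1 + 2 * Nat.card P + 2 * Nat.card P * (2 * Nat.card P - 2)) * (4 * Nat.card P) := by
  rw [card_eq d ht ht2]
  exact Nat.mul_le_mul_right _ (card_invol_le d ht ht2)

end Three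

end Cfsg.Agent.Lib.Helper21.KleinCount
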