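import Mathlib
import Cfsg.Prelude.Def_Transfer
import Cfsg.Agent.S0023
import Cfsg.Agent.S3982
import Cfsg.Agent.Lib.Helper21.Engel
import Cfsg.Agent.Lib.Helper21.PiTools2

set_option autoImplicit false
open Cfsg

/-! Nilpotent maximal subgroups: reduction to normal `p`-complements. -/

namespace Cfsg.Agent.Lib.Helper21.NilMax

universe u

section basic
variable {G : Type u} [Group G]

/-- A proper overgroup of a maximal subgroup equals it. -/
theorem coatom_eq_of_le {M X : Subgroup G} (hmax : IsCoatom M) (h : M ≤ X) (hX : X ≠ ⊤) :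
    X = M := by
  rcases eq_or_lt_of_le h with h1 | h1
  · exact h1.symm
  · exact absurd (hmax.2 X h1) hX

/-- Normalizer growth in nilpotent subgroups. -/
theorem exists_normalizing_of_lt [Finite G] {Q R : Subgroup G} (hR : Group.IsNilpotent R)
    (hQR : Q ≤ R) (hne : Q ≠ R) :
    ∃ r ∈ R, r ∉ Q ∧ r ∈ Subgroup.normalizer (Q : Set G) := by
  have hlt : Q.subgroupOf R < ⊤ := by
    rw [lt_top_iff_ne_top]
    intro h
    rw [Subgroup.subgroupOf_eq_top] at h
    exact hne (le_antisymm hQR h)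
  have hgrow := Group.normalizerCondition_of_isNilpotent (Q.subgroupOf R) hlt
  obtain ⟨r, hrN, hrQ⟩ := SetLike.exists_of_lt hgrow
  refine ⟨r, r.2, ?_, ?_⟩
  · intro h
    apply hrQ
    rw [Subgroup.mem_subgroupOf]
    exact h
  · apply Cfsg.Agent.Lib.Helper21.Engel.mem_normalizer_of_conj_le
    intro d hd
    have h1 : (⟨d, hQR hd⟩ : R) ∈ Q.subgroupOf R := by
      rw [Subgroup.mem_subgroupOf]
      exact hd
    have h2 : r * ⟨d, hQR hd⟩ * r⁻¹ ∈ Q.subgroupOf R :=
      (Subgroup.mem_set_normalizer_iff.mp hrN _).mp h1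
    exact Subgroup.mem_subgroupOf.mp h2

/-- The image of a maximal subgroup containing the kernel is maximal in the quotient. -/
theorem coatom_map (M C : Subgroup G) [C.Normal] (hCM : C ≤ M) (hmax : IsCoatom M) :
    IsCoatom (M.map (QuotientGroup.mk' C)) := by
  have hker : (QuotientGroup.mk' C).ker ≤ M := by
    rw [QuotientGroup.ker_mk']
    exact hCM
  have hsurj : Function.Surjective (QuotientGroup.mk' C) := QuotientGroup.mk'_surjective C
  constructor
  · intro h
    apply hmax.1
    rw [← Subgroup.comap_map_eq_self hker, h, Subgroup.comap_top]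
  · intro X hX
    have h1 : M ≤ X.comap (QuotientGroup.mk' C) := by
      rw [← Subgroup.comap_map_eq_self hker]
      exact Subgroup.comap_mono hX.le
    have h2 : X.comap (QuotientGroup.mk' C) ≠ M := by
      intro h
      apply hX.ne
      rw [← Subgroup.map_comap_eq_self_of_surjective hsurj X, h]
    have h3 : X.comap (QuotientGroup.mk' C) = ⊤ := hmax.2 _ (lt_of_le_of_ne h1 (Ne.symm h2))
    rw [← Subgroup.map_comap_eq_self_of_surjective hsurj X, h3,
      Subgroup.map_top_of_surjective _ hsurj]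

end basic

section main
variable {G : Type u} [Group G] [Finite G]

/-- For a core-free nilpotent maximal subgroup `M`, the Sylow subgroups of `M` are Sylow subgroups
of the whole group, with normalizer `M`. -/
theorem sylow_normalizer {M : Subgroup G} (hmax : IsCoatom M) (hnil : Group.IsNilpotent M)
    (hcore : ∀ N : Subgroup G, N.Normal → N ≤ M → N = ⊥) (p : ℕ) [Fact p.Prime]
    (hp : p ∣ Nat.card M) :
    ∃ P : Sylow p G, (P : Subgroup G) ≤ M ∧
      Subgroup.normalizer ((P : Subgroup G) : Set G) = M ∧ (P : Subgroup G) ≠ ⊥ := by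
  haveI := hnil
  obtain ⟨P₀⟩ : Nonempty (Sylow p M) := inferInstance
  have hP₀n : (P₀ : Subgroup M).Normal := inferInstance
  obtain ⟨P', hP'⟩ : ∃ P' : Subgroup G, P' = (P₀ : Subgroup M).map M.subtype := ⟨_, rfl⟩
  have hP'le : P' ≤ M := hP' ▸ Subgroup.map_subtype_le _
  have hP'p : IsPGroup p P' := hP' ▸ P₀.isPGroup'.map _
  have hP'ne : P' ≠ ⊥ := by
    rw [hP']
    intro h
    rw [Subgroup.map_eq_bot_iff_of_injective _ M.subtype_injective] at h
    exact P₀.ne_bot_of_dvd_card hp h
  have hMN : M ≤ Subgroup.normalizer (P' : Set G) := by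
    intro m hm
    apply Cfsg.Agent.Lib.Helper21.Engel.mem_normalizer_of_conj_le
    intro d hd
    rw [hP'] at hd ⊢
    obtain ⟨d₀, hd₀, rfl⟩ := hd
    exact ⟨⟨m, hm⟩ * d₀ * ⟨m, hm⟩⁻¹, hP₀n.conj_mem d₀ hd₀ ⟨m, hm⟩, rfl⟩
  have hN : Subgroup.normalizer (P' : Set G) = M := by
    apply coatom_eq_of_le hmax hMN
    intro h
    rw [Subgroup.normalizer_eq_top_iff] at h
    exact hP'ne (hcore P' h hP'le)
  obtain ⟨P, hP'P⟩ := hP'p.exists_le_sylow
  have hEq : P' = (P : Subgroup G) := by
    by_contra hne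
    obtain ⟨r, hrP, hrP', hrN⟩ := exists_normalizing_of_lt P.isPGroup'.isNilpotent hP'P hne
    rw [hN] at hrN
    obtain ⟨k, hk⟩ := Cfsg.Agent.Lib.Helper21.PiTools2.orderOf_of_mem_sylow P r hrP
    have h1 : (⟨r, hrN⟩ : M) ∈ (P₀ : Subgroup M) :=
      Cfsg.Agent.Lib.Helper21.PiTools2.mem_normal_sylow P₀ hP₀n _
        ⟨k, by rw [Subgroup.orderOf_mk, hk]⟩
    apply hrP'
    rw [hP']
    exact ⟨⟨r, hrN⟩, h1, rfl⟩
  exact ⟨P, hEq ▸ hP'le, hEq ▸ hN, hEq ▸ hP'ne⟩

/-- Data extracted from a normal `p`-complement. -/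
theorem npc_data {p : ℕ} [Fact p.Prime] (h : HasNormalPComplement p G) :
    ∃ K : Subgroup G, K.Normal ∧ (Nat.card K).Coprime p ∧ ∃ n, derivedSeries G n ≤ K := by
  have hp : p.Prime := Fact.out
  obtain ⟨P, K, hKn, hc⟩ := h
  refine ⟨K, hKn, ?_, ?_⟩
  · have h1 : (P : Subgroup G).index = Nat.card K := hc.index_eq_card
    rw [← h1]
    exact ((Nat.Prime.coprime_iff_not_dvd hp).mpr P.not_dvd_index).symm
  · have h2 : K.index = Nat.card (P : Subgroup G) := hc.symm.index_eq_card
    obtain ⟨a, ha⟩ := IsPGroup.iff_card.mp P.isPGroup'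
    have hQ : IsPGroup p (G ⧸ K) := IsPGroup.of_card (n := a) (by
      rw [← Subgroup.index_eq_card, h2, ha])
    have hnil : Group.IsNilpotent (G ⧸ K) := hQ.isNilpotent
    have hsol : Group.IsSolvable (G ⧸ K) := inferInstance
    obtain ⟨n, hn⟩ := (Group.isSolvable_def (G ⧸ K)).mp hsol
    refine ⟨n, ?_⟩
    have h3 := map_derivedSeries_le_derivedSeries (QuotientGroup.mk' K) n
    rw [hn, le_bot_iff, Subgroup.map_eq_bot_iff, QuotientGroup.ker_mk'] at h3
    exact h3

/-- A group with a nilpotent maximal subgroup `M` and normal `p`-complements for all primes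
dividing the order of `M` is solvable. -/
theorem solvable_of_npc (M : Subgroup G) (hmax : IsCoatom M) (hnil : Group.IsNilpotent M)
    (hnpc : ∀ p : ℕ, p.Prime → p ∣ Nat.card M →
      ∃ K : Subgroup G, K.Normal ∧ (Nat.card K).Coprime p ∧ ∃ n, derivedSeries G n ≤ K) :
    Group.IsSolvable G := by
  classical
  have hMpos : Nat.card M ≠ 0 := Nat.card_pos.ne'
  obtain ⟨K, hK⟩ : ∃ K : ℕ → Subgroup G, ∀ p : ℕ, (K p).Normal ∧
      (p.Prime → p ∣ Nat.card M → (Nat.card (K p)).Coprime p ∧ ∃ n, derivedSeries G n ≤ K p) ∧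
      (¬ (p.Prime ∧ p ∣ Nat.card M) → K p = ⊤) := by
    have h1 : ∀ p : ℕ, ∃ K : Subgroup G, K.Normal ∧
        (p.Prime → p ∣ Nat.card M → (Nat.card K).Coprime p ∧ ∃ n, derivedSeries G n ≤ K) ∧
        (¬ (p.Prime ∧ p ∣ Nat.card M) → K = ⊤) := by
      intro p
      by_cases h : p.Prime ∧ p ∣ Nat.card M
      · obtain ⟨K, hKn, hKc, hKd⟩ := hnpc p h.1 h.2
        exact ⟨K, hKn, fun _ _ => ⟨hKc, hKd⟩, fun h' => absurd h h'⟩
      · exact ⟨⊤, inferInstance, fun h1 h2 => absurd ⟨h1, h2⟩ h, fun _ => rfl⟩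
    exact ⟨fun p => (h1 p).choose, fun p => (h1 p).choose_spec⟩
  obtain ⟨N, hNdef⟩ : ∃ N : Subgroup G, N = ⨅ p, K p := ⟨_, rfl⟩
  have hNn : N.Normal := hNdef ▸ Subgroup.normal_iInf_normal (fun p => (hK p).1)
  have hNle : ∀ p, N ≤ K p := fun p => hNdef ▸ iInf_le K p
  -- the derived series reaches `N`
  have hD : ∃ n, derivedSeries G n ≤ N := by
    have h2 : ∀ p : ℕ, ∃ n, derivedSeries G n ≤ K p := by
      intro p
      by_cases h : p.Prime ∧ p ∣ Nat.card M
      · exact ((hK p).2.1 h.1 h.2).2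
      · exact ⟨0, by rw [(hK p).2.2 h]; exact le_top⟩
    choose n hn using h2
    refine ⟨(Nat.card M).primeFactors.sup n, ?_⟩
    rw [hNdef]
    apply le_iInf
    intro p
    by_cases hp : p ∈ (Nat.card M).primeFactors
    · exact (derivedSeries_antitone G (Finset.le_sup hp)).trans (hn p)
    · have h : ¬ (p.Prime ∧ p ∣ Nat.card M) := by
        intro h
        exact hp (Nat.mem_primeFactors.mpr ⟨h.1, h.2, hMpos⟩)
      rw [(hK p).2.2 h]
      exact le_top
  -- `N` meets `M` trivially
  have hNM : ∀ x : G, x ∈ N → x ∈ M → x = 1 := by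
    intro x hxN hxM
    by_contra hx1
    have hne : orderOf x ≠ 1 := fun h1 => hx1 (orderOf_eq_one_iff.mp h1)
    have hp : (orderOf x).minFac.Prime := Nat.minFac_prime hne
    have hpx : (orderOf x).minFac ∣ orderOf x := Nat.minFac_dvd _
    have hxM' : orderOf x ∣ Nat.card M := by
      have h := orderOf_dvd_natCard (⟨x, hxM⟩ : M)
      rwa [Subgroup.orderOf_mk] at h
    have hxK : orderOf x ∣ Nat.card (K (orderOf x).minFac) := by
      have h := orderOf_dvd_natCard (⟨x, hNle _ hxN⟩ : K (orderOf x).minFac)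
      rwa [Subgroup.orderOf_mk] at h
    have hcop := ((hK (orderOf x).minFac).2.1 hp (hpx.trans hxM')).1
    exact (Nat.Prime.coprime_iff_not_dvd hp).mp hcop.symm (hpx.trans hxK)
  have hcop : (Nat.card M).Coprime (Nat.card N) := by
    apply Nat.coprime_of_dvd
    intro p hp hpM hpN
    have h1 := ((hK p).2.1 hp hpM).1
    exact (Nat.Prime.coprime_iff_not_dvd hp).mp h1.symm (hpN.trans (Subgroup.card_dvd_of_le (hNle p)))
  -- `N` is solvable
  have hNsolv : Group.IsSolvable N := by
    by_cases hN : N = ⊥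
    · have : Subsingleton N := by
        rw [hN]
        infer_instance
      infer_instance
    have hcard1 : Nat.card N ≠ 1 := fun h => hN (Subgroup.card_eq_one.mp h)
    have hr : (Nat.card N).minFac.Prime := Nat.minFac_prime hcard1
    have : Fact (Nat.card N).minFac.Prime := ⟨hr⟩
    have hMsol : Group.IsSolvable M := by
      have := hnil
      infer_instance
    obtain ⟨R, hR⟩ := Cfsg.Agent.S0023.result M N
      (fun m _ => by
        rw [Subgroup.normalizer_eq_top_iff.mpr hNn]
        exact Subgroup.mem_top m) hcop (Or.inl hMsol) (Nat.card N).minFac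
    obtain ⟨R', hR'⟩ : ∃ R' : Subgroup G, R' = (R : Subgroup N).map N.subtype := ⟨_, rfl⟩
    rw [← hR'] at hR
    have hR'N : R' ≤ N := hR' ▸ Subgroup.map_subtype_le _
    have hR'ne : R' ≠ ⊥ := by
      rw [hR']
      intro h
      rw [Subgroup.map_eq_bot_iff_of_injective _ N.subtype_injective] at h
      exact R.ne_bot_of_dvd_card (Nat.minFac_dvd _) h
    have hsup : R' ⊔ M = ⊤ := by
      apply hmax.2
      apply lt_of_le_of_ne le_sup_right
      intro h
      have h1 : R' ≤ M := by
        rw [h]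
        exact le_sup_left
      apply hR'ne
      rw [eq_bot_iff]
      intro x hx
      rw [Subgroup.mem_bot]
      exact hNM x (hR'N hx) (h1 hx)
    have hdvd1 := Cfsg.Agent.S3982.card_sup_dvd_of_le_normalizer R' M hR
    rw [hsup, Subgroup.card_top] at hdvd1
    have hdvd2 : Nat.card N * Nat.card M ∣ Nat.card G :=
      Nat.Coprime.mul_dvd_of_dvd_of_dvd hcop.symm (Subgroup.card_subgroup_dvd_card N)
        (Subgroup.card_subgroup_dvd_card M)
    have hdvd3 : Nat.card N ∣ Nat.card R' :=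
      Nat.dvd_of_mul_dvd_mul_right Nat.card_pos (hdvd2.trans hdvd1)
    have hcardR : Nat.card R' = Nat.card (R : Subgroup N) := by
      rw [hR', Subgroup.card_map_of_injective N.subtype_injective]
    obtain ⟨k, hk⟩ := IsPGroup.iff_card.mp R.isPGroup'
    have hNp : IsPGroup (Nat.card N).minFac N := by
      apply IsPGroup.of_card (n := k)
      apply Nat.dvd_antisymm
      · rw [← hk, ← hcardR]
        exact hdvd3
      · rw [← hk]
        exact Subgroup.card_subgroup_dvd_card _
    have hNnil : Group.IsNilpotent N := hNp.isNilpotent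
    infer_instance
  obtain ⟨n, hn⟩ := hD
  have hQsolv : Group.IsSolvable (G ⧸ N) := by
    rw [Group.isSolvable_def]
    refine ⟨n, ?_⟩
    rw [← map_derivedSeries_eq (QuotientGroup.mk'_surjective N) n, Subgroup.map_eq_bot_iff,
      QuotientGroup.ker_mk']
    exact hn
  exact (Group.isSolvable_iff_subgroup_quotient N).mpr ⟨hNsolv, hQsolv⟩

end main

end Cfsg.Agent.Lib.Helper21.NilMax
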