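import Mathlib
import Cfsg.Agent.Lib.Helper21.BaerSuzuki

set_option autoImplicit false

/-! Normal Sylow 2-subgroups from "no involution acts on a subgroup of odd prime order". -/

namespace Cfsg.Agent.Lib.Helper21.NormalSylowTwo

open Cfsg.Agent.Lib.Helper21.BaerSuzuki

universe u

/-- For every element `x` of odd prime order, an element normalizing `⟨x⟩` whose square
centralizes `x` centralizes `x`. -/
def Hyp (G : Type u) [Group G] : Prop :=
  ∀ x g : G, (orderOf x).Prime → orderOf x ≠ 2 → g * x * g⁻¹ ∈ Subgroup.zpowers x →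
    (g * g) * x = x * (g * g) → g * x = x * g

/-- Under `Hyp`, every involution lies in a normal 2-subgroup. -/
theorem involution_mem {G : Type u} [Group G] [Finite G] (hG : Hyp G) (t : G)
    (ht : orderOf t = 2) : ∃ N : Subgroup G, N.Normal ∧ IsPGroup 2 N ∧ t ∈ N := by
  have : Fact (Nat.Prime 2) := ⟨Nat.prime_two⟩
  have ht2 : t * t = 1 := by rw [← pow_two, ← ht, pow_orderOf_eq_one]
  have htinv : t⁻¹ = t := inv_eq_of_mul_eq_one_left ht2
  have hX : IsPGroup 2 (Subgroup.zpowers t) :=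
    IsPGroup.of_card (n := 1) (by rw [Nat.card_zpowers, ht, pow_one])
  have key : ∀ g : G, IsPGroup 2
      ↥(Subgroup.zpowers t ⊔ (Subgroup.zpowers t).map (MulAut.conj g).toMonoidHom) := by
    intro g
    set s := g * t * g⁻¹ with hs
    have hs2 : s * s = 1 := by
      rw [hs]
      calc g * t * g⁻¹ * (g * t * g⁻¹) = g * (t * t) * g⁻¹ := by group
        _ = 1 := by rw [ht2]; group
    have hsinv : s⁻¹ = s := inv_eq_of_mul_eq_one_left hs2
    set r := t * s with hr
    have htr : t * r * t⁻¹ = r⁻¹ := by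
      rw [hr, mul_inv_rev, hsinv, htinv]
      calc t * (t * s) * t = (t * t) * s * t := by group
        _ = s * t := by rw [ht2, one_mul]
    have hrord : ∃ k, orderOf r = 2 ^ k := by
      have ho : orderOf r ≠ 0 := (orderOf_pos r).ne'
      obtain ⟨k, m, hm, hkm⟩ := Nat.exists_eq_pow_mul_and_not_dvd ho 2 (by norm_num)
      refine ⟨k, ?_⟩
      by_contra hne
      have hm1 : m ≠ 1 := by
        rintro rfl
        exact hne (by rw [hkm, mul_one])
      obtain ⟨q, hq, hqm⟩ := Nat.exists_prime_and_dvd hm1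
      have hq2 : q ≠ 2 := by
        rintro rfl
        exact hm hqm
      have hqo : q ∣ orderOf r := by
        rw [hkm]
        exact Dvd.dvd.mul_left hqm _
      set x := r ^ (orderOf r / q) with hx
      have hxo : orderOf x = q := orderOf_pow_orderOf_div ho hqo
      have htx : t * x * t⁻¹ = x⁻¹ := by
        rw [hx, ← conj_pow, htr, inv_pow]
      have h1 : t * x = x * t :=
        hG x t (by rw [hxo]; exact hq) (by rw [hxo]; exact hq2)
          (by rw [htx]; exact inv_mem (Subgroup.mem_zpowers x))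
          (by rw [ht2, one_mul, mul_one])
      have h2 : x = x⁻¹ := by
        rw [← htx, h1, mul_inv_cancel_right]
      have h3 : x ^ 2 = 1 := by
        rw [pow_two]
        nth_rewrite 2 [h2]
        exact mul_inv_cancel x
      have h4 := orderOf_dvd_of_pow_eq_one h3
      rw [hxo] at h4
      exact hq2 ((Nat.prime_dvd_prime_iff_eq hq Nat.prime_two).mp h4)
    obtain ⟨k, hk⟩ := hrord
    have hR : IsPGroup 2 (Subgroup.zpowers r) :=
      IsPGroup.of_card (n := k) (by rw [Nat.card_zpowers, hk])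
    have hfwd : ∀ h ∈ Subgroup.zpowers r, t * h * t⁻¹ ∈ Subgroup.zpowers r := by
      intro h hh
      obtain ⟨i, rfl⟩ := Subgroup.mem_zpowers_iff.mp hh
      rw [← conj_zpow, htr]
      exact zpow_mem (inv_mem (Subgroup.mem_zpowers r)) i
    have htn : Subgroup.zpowers t ≤
        Subgroup.normalizer ((Subgroup.zpowers r : Subgroup G) : Set G) := by
      rw [Subgroup.zpowers_le, Subgroup.mem_set_normalizer_iff]
      intro h
      constructor
      · exact hfwd h
      · intro hh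
        have h5 := hfwd _ hh
        have h6 : t * (t * h * t⁻¹) * t⁻¹ = h := by
          rw [htinv]
          calc t * (t * h * t) * t = (t * t) * h * (t * t) := by group
            _ = h := by rw [ht2, one_mul, mul_one]
        rwa [h6] at h5
    have hsup : IsPGroup 2 ↥(Subgroup.zpowers t ⊔ Subgroup.zpowers r) :=
      hX.to_sup_of_normal_right' hR htn
    apply hsup.to_le
    apply sup_le le_sup_left
    rw [MonoidHom.map_zpowers, Subgroup.zpowers_le]
    have h7 : (MulAut.conj g).toMonoidHom t = t * r := by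
      show g * t * g⁻¹ = t * r
      rw [hr, ← mul_assoc, ht2, one_mul]
    rw [h7]
    exact Subgroup.mul_mem _ (Subgroup.mem_sup_left (Subgroup.mem_zpowers t))
      (Subgroup.mem_sup_right (Subgroup.mem_zpowers r))
  obtain ⟨N, hN, hNp, hle⟩ := baer_suzuki (p := 2) (Subgroup.zpowers t) hX key
  exact ⟨N, hN, hNp, hle (Subgroup.mem_zpowers t)⟩

/-- Sylow conjugacy inside `⟨x⟩N`, with the conjugating element in `N`. -/
theorem exists_conj_mem {G : Type u} [Group G] [Finite G] (N : Subgroup G) [N.Normal]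
    (hN : IsPGroup 2 N) (x y : G) (q : ℕ) (hq : q.Prime) (hq2 : q ≠ 2) (hx : orderOf x = q)
    (hy : orderOf y = q) (hyL : y ∈ Subgroup.zpowers x ⊔ N) :
    ∃ m ∈ N, m⁻¹ * y * m ∈ Subgroup.zpowers x := by
  have : Fact q.Prime := ⟨hq⟩
  have : Fact (Nat.Prime 2) := ⟨Nat.prime_two⟩
  set L : Subgroup G := Subgroup.zpowers x ⊔ N with hL
  have hxL : x ∈ L := Subgroup.mem_sup_left (Subgroup.mem_zpowers x)
  have hcardL : Nat.card L ∣ q * Nat.card N := by
    have h1 := Subgroup.relIndex_mul_relIndex ⊥ N L bot_le le_sup_right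
    rw [Subgroup.relIndex_bot_left, Subgroup.relIndex_bot_left] at h1
    rw [← h1, hL, Subgroup.relIndex_sup_right, mul_comm]
    apply Nat.mul_dvd_mul_right
    have h2 := Subgroup.relIndex_dvd_card N (Subgroup.zpowers x)
    rwa [Nat.card_zpowers, hx] at h2
  obtain ⟨a, ha⟩ := IsPGroup.iff_card.mp hN
  have hx' : orderOf (⟨x, hxL⟩ : L) = q := by rw [Subgroup.orderOf_mk]; exact hx
  have hy' : orderOf (⟨y, hyL⟩ : L) = q := by rw [Subgroup.orderOf_mk]; exact hy
  have hsyl : ∀ (Q : Sylow q L) (z : L), orderOf z = q → Subgroup.zpowers z ≤ Q →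
      Subgroup.zpowers z = (Q : Subgroup L) := by
    intro Q z hz hzQ
    obtain ⟨j, hj⟩ := IsPGroup.iff_card.mp Q.isPGroup'
    have h1 : q ^ j ∣ q * 2 ^ a := by
      rw [← hj, ← ha]
      exact (Subgroup.card_subgroup_dvd_card _).trans hcardL
    have hj1 : j ≤ 1 := by
      by_contra hcon
      push Not at hcon
      have h2 : q ^ 2 ∣ q * 2 ^ a := (pow_dvd_pow q hcon).trans h1
      rw [pow_two] at h2
      have h3 : q ∣ 2 ^ a := Nat.dvd_of_mul_dvd_mul_left hq.pos h2
      have h4 := hq.dvd_of_dvd_pow h3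
      exact hq2 ((Nat.prime_dvd_prime_iff_eq hq Nat.prime_two).mp h4)
    apply Subgroup.eq_of_le_of_card_ge hzQ
    rw [Nat.card_zpowers, hz]
    show Nat.card (Q : Subgroup L) ≤ q
    rw [hj]
    calc q ^ j ≤ q ^ 1 := Nat.pow_le_pow_right hq.pos hj1
      _ = q := pow_one q
  have hXp : IsPGroup q (Subgroup.zpowers (⟨x, hxL⟩ : L)) :=
    IsPGroup.of_card (n := 1) (by rw [Nat.card_zpowers, hx', pow_one])
  have hYp : IsPGroup q (Subgroup.zpowers (⟨y, hyL⟩ : L)) :=
    IsPGroup.of_card (n := 1) (by rw [Nat.card_zpowers, hy', pow_one])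
  obtain ⟨Q₁, hQ₁⟩ := hXp.exists_le_sylow
  obtain ⟨Q₂, hQ₂⟩ := hYp.exists_le_sylow
  have hQ₁' := hsyl Q₁ _ hx' hQ₁
  obtain ⟨l, hl⟩ := MulAction.exists_smul_eq L Q₁ Q₂
  have h1 : (⟨y, hyL⟩ : L) ∈ (l • Q₁ : Sylow q L) := by
    rw [hl]
    exact hQ₂ (Subgroup.mem_zpowers _)
  have h2 : l⁻¹ * (⟨y, hyL⟩ : L) * l ∈ (Q₁ : Subgroup L) := (mem_smul_sylow l _ Q₁).mp h1
  rw [← hQ₁'] at h2
  obtain ⟨k, hk⟩ := Subgroup.mem_zpowers_iff.mp h2
  have hconj : (l : G)⁻¹ * y * (l : G) ∈ Subgroup.zpowers x := by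
    have h3 := congrArg Subtype.val hk
    have h4 : x ^ k = (l : G)⁻¹ * y * (l : G) := by
      simpa using h3
    rw [← h4]
    exact zpow_mem (Subgroup.mem_zpowers x) k
  have hlmem : (l : G) ∈ ((N ⊔ Subgroup.zpowers x : Subgroup G) : Set G) := by
    rw [sup_comm]
    exact l.2
  rw [Subgroup.normal_mul] at hlmem
  obtain ⟨m, hm, c, hc, hmc⟩ := Set.mem_mul.mp hlmem
  refine ⟨m, hm, ?_⟩
  have h5 : m⁻¹ * y * m = c * ((l : G)⁻¹ * y * (l : G)) * c⁻¹ := by
    rw [← hmc]; group
  rw [h5]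
  exact mul_mem (mul_mem hc hconj) (inv_mem hc)

/-- `Hyp` passes to quotients by normal 2-subgroups. -/
theorem hyp_quotient {G : Type u} [Group G] [Finite G] (hG : Hyp G) (N : Subgroup G) [N.Normal]
    (hN : IsPGroup 2 N) : Hyp (G ⧸ N) := by
  intro xb gb
  obtain ⟨y, rfl⟩ := QuotientGroup.mk_surjective xb
  obtain ⟨g, rfl⟩ := QuotientGroup.mk_surjective gb
  intro hxb hxb2 hnorm hsq
  set q := orderOf (y : G ⧸ N) with hqdef
  have hyq : y ^ q ∈ N := by
    rw [← QuotientGroup.eq_one_iff, QuotientGroup.mk_pow, hqdef, pow_orderOf_eq_one]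
  obtain ⟨b, hb⟩ := hN ⟨y ^ q, hyq⟩
  have hb' : (y ^ q) ^ (2 ^ b) = 1 := by simpa using congrArg Subtype.val hb
  have hcop2 : Nat.Coprime 2 q := by
    rw [Nat.coprime_primes Nat.prime_two hxb]
    exact fun h => hxb2 h.symm
  have hcop : Nat.Coprime (2 ^ b) q := Nat.Coprime.pow_left b hcop2
  obtain ⟨c, -, hc⟩ := Nat.exists_mul_mod_eq_one_of_coprime hcop hxb.one_lt
  set x := y ^ (2 ^ b * c) with hxdef
  have hxmk : (x : G ⧸ N) = (y : G ⧸ N) := by
    rw [hxdef, QuotientGroup.mk_pow]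
    conv_rhs => rw [← pow_one (y : G ⧸ N)]
    rw [pow_eq_pow_iff_modEq]
    show (2 ^ b * c) % q = 1 % q
    rw [hc, Nat.mod_eq_of_lt hxb.one_lt]
  have hxq : x ^ q = 1 := by
    rw [hxdef, ← pow_mul, mul_comm, pow_mul, pow_mul, hb', one_pow]
  have hxne : x ≠ 1 := by
    intro h
    have h1 : (y : G ⧸ N) = 1 := by rw [← hxmk, h]; rfl
    have h2 : q = 1 := by rw [hqdef, h1, orderOf_one]
    rw [h2] at hxb
    exact Nat.not_prime_one hxb
  have hxo : orderOf x = q := by
    have h1 := orderOf_dvd_of_pow_eq_one hxq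
    rcases (Nat.dvd_prime hxb).mp h1 with h | h
    · exact absurd (orderOf_eq_one_iff.mp h) hxne
    · exact h
  have hgL : g * x * g⁻¹ ∈ Subgroup.zpowers x ⊔ N := by
    have h1 : ((g * x * g⁻¹ : G) : G ⧸ N) ∈ Subgroup.zpowers (y : G ⧸ N) := by
      rw [QuotientGroup.mk_mul, QuotientGroup.mk_mul, QuotientGroup.mk_inv, hxmk]
      exact hnorm
    obtain ⟨i, hi⟩ := Subgroup.mem_zpowers_iff.mp h1
    have h2 : ((x ^ i : G) : G ⧸ N) = ((g * x * g⁻¹ : G) : G ⧸ N) := by
      rw [QuotientGroup.mk_zpow, hxmk, hi]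
    have h3 : (x ^ i)⁻¹ * (g * x * g⁻¹) ∈ N := QuotientGroup.eq.mp h2
    have h4 : g * x * g⁻¹ = x ^ i * ((x ^ i)⁻¹ * (g * x * g⁻¹)) := by group
    rw [h4]
    exact mul_mem (Subgroup.mem_sup_left (zpow_mem (Subgroup.mem_zpowers x) i))
      (Subgroup.mem_sup_right h3)
  have hyo : orderOf (g * x * g⁻¹) = q := by
    rw [← hxo]
    exact (MulAut.conj g).orderOf_eq x
  obtain ⟨m, hm, hmx⟩ := exists_conj_mem N hN x (g * x * g⁻¹) q hxb hxb2 hxo hyo hgL
  set n := m⁻¹ * g with hn
  have hnx : n * x * n⁻¹ ∈ Subgroup.zpowers x := by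
    have h1 : n * x * n⁻¹ = m⁻¹ * (g * x * g⁻¹) * m := by rw [hn]; group
    rw [h1]
    exact hmx
  have hnmk : (n : G ⧸ N) = (g : G ⧸ N) := by
    rw [hn, QuotientGroup.mk_mul, QuotientGroup.mk_inv, (QuotientGroup.eq_one_iff m).mpr hm,
      inv_one, one_mul]
  have hnn : n * n * x = x * (n * n) := by
    set w := (n * n) * x * (n * n)⁻¹ * x⁻¹ with hw
    have hwN : w ∈ N := by
      rw [← QuotientGroup.eq_one_iff, hw]
      simp only [QuotientGroup.mk_mul, QuotientGroup.mk_inv, hnmk, hxmk]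
      rw [hsq]
      group
    have hwX : w ∈ Subgroup.zpowers x := by
      obtain ⟨i, hi⟩ := Subgroup.mem_zpowers_iff.mp hnx
      have h1 : (n * n) * x * (n * n)⁻¹ = (x ^ i) ^ i := by
        calc (n * n) * x * (n * n)⁻¹ = n * (n * x * n⁻¹) * n⁻¹ := by group
          _ = n * x ^ i * n⁻¹ := by rw [hi]
          _ = (n * x * n⁻¹) ^ i := by rw [conj_zpow]
          _ = (x ^ i) ^ i := by rw [hi]
      rw [hw, h1]
      exact mul_mem (zpow_mem (zpow_mem (Subgroup.mem_zpowers x) i) i)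
        (inv_mem (Subgroup.mem_zpowers x))
    have hw1 : w = 1 := by
      obtain ⟨e, he⟩ := hN ⟨w, hwN⟩
      have he' : w ^ (2 ^ e) = 1 := by simpa using congrArg Subtype.val he
      have h1 : orderOf w ∣ 2 ^ e := orderOf_dvd_of_pow_eq_one he'
      have h2 : orderOf w ∣ q := by
        apply orderOf_dvd_of_pow_eq_one
        obtain ⟨i, hi⟩ := Subgroup.mem_zpowers_iff.mp hwX
        rw [← hi, ← zpow_natCast, ← zpow_mul, mul_comm, zpow_mul, zpow_natCast, hxq, one_zpow]
      have h3 : orderOf w ∣ Nat.gcd (2 ^ e) q := Nat.dvd_gcd h1 h2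
      have h4 : Nat.gcd (2 ^ e) q = 1 := Nat.Coprime.pow_left e hcop2
      rw [h4] at h3
      exact orderOf_eq_one_iff.mp (Nat.dvd_one.mp h3)
    have h5 : (n * n) * x * (n * n)⁻¹ * x⁻¹ = 1 := hw1
    calc n * n * x = ((n * n) * x * (n * n)⁻¹ * x⁻¹) * x * (n * n) := by group
      _ = x * (n * n) := by rw [h5, one_mul]
  have hfinal := hG x n (by rw [hxo]; exact hxb) (by rw [hxo]; exact hxb2) hnx hnn
  rw [← hnmk, ← hxmk, ← QuotientGroup.mk_mul, ← QuotientGroup.mk_mul, hfinal]

/-- Under `Hyp`, Sylow 2-subgroups are normal (induction on the order). -/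
theorem normal_sylow_two_aux : ∀ (n : ℕ) (G : Type u) [Group G] [Finite G], Nat.card G = n →
    Hyp G → ∀ P : Sylow 2 G, (P : Subgroup G).Normal := by
  intro n
  induction n using Nat.strong_induction_on with
  | _ n ih =>
  intro G _ _ hn hG P
  have : Fact (Nat.Prime 2) := ⟨Nat.prime_two⟩
  by_cases hinv : ∃ t : G, orderOf t = 2
  · obtain ⟨t, ht⟩ := hinv
    obtain ⟨N, hNn, hNp, htN⟩ := involution_mem hG t ht
    have hNP : N ≤ P := hNp.le_sylow_of_normal P
    have hcard : Nat.card (G ⧸ N) < n := by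
      rw [← hn, Subgroup.card_eq_card_quotient_mul_card_subgroup N]
      have h1 : 1 < Nat.card N := by
        rw [Subgroup.one_lt_card_iff_ne_bot]
        intro h
        rw [h, Subgroup.mem_bot] at htN
        rw [htN, orderOf_one] at ht
        omega
      have h0 : 0 < Nat.card (G ⧸ N) := Nat.card_pos
      nlinarith
    have hQ := ih _ hcard (G ⧸ N) rfl (hyp_quotient hG N hNp)
    have h2 := hQ (P.mapSurjective (QuotientGroup.mk'_surjective N))
    rw [Sylow.coe_mapSurjective] at h2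
    have h3 : (P : Subgroup G)
        = ((P : Subgroup G).map (QuotientGroup.mk' N)).comap (QuotientGroup.mk' N) := by
      rw [Subgroup.comap_map_eq, QuotientGroup.ker_mk', sup_eq_left.mpr hNP]
    rw [h3]
    exact h2.comap _
  · have hP : (P : Subgroup G) = ⊥ := by
      by_contra hne
      have h1 : 2 ∣ Nat.card (P : Subgroup G) := by
        obtain ⟨k, hk⟩ := IsPGroup.iff_card.mp P.isPGroup'
        have hk0 : k ≠ 0 := by
          rintro rfl
          rw [pow_zero] at hk
          exact hne (Subgroup.card_eq_one.mp hk)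
        rw [hk]
        exact dvd_pow_self 2 hk0
      obtain ⟨z, hz⟩ := exists_prime_orderOf_dvd_card' 2 h1
      exact hinv ⟨z, by rw [Subgroup.orderOf_coe]; exact hz⟩
    rw [hP]
    infer_instance

/-- Under `Hyp`, Sylow 2-subgroups are normal. -/
theorem normal_sylow_two {G : Type u} [Group G] [Finite G] (hG : Hyp G) (P : Sylow 2 G) :
    (P : Subgroup G).Normal :=
  normal_sylow_two_aux _ G rfl hG P

/-- If `g x g⁻¹ ∈ ⟨x⟩` then `g` normalizes `⟨x⟩` (finite group). -/
theorem mem_normalizer_zpowers {G : Type u} [Group G] [Finite G] (x g : G)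
    (h : g * x * g⁻¹ ∈ Subgroup.zpowers x) :
    g ∈ Subgroup.normalizer ((Subgroup.zpowers x : Subgroup G) : Set G) := by
  have heq : Subgroup.zpowers (g * x * g⁻¹) = Subgroup.zpowers x := by
    apply Subgroup.eq_of_le_of_card_ge (Subgroup.zpowers_le.mpr h)
    rw [Nat.card_zpowers, Nat.card_zpowers]
    exact ((MulAut.conj g).orderOf_eq x).ge
  rw [Subgroup.mem_set_normalizer_iff]
  intro y
  constructor
  · intro hy
    obtain ⟨i, rfl⟩ := Subgroup.mem_zpowers_iff.mp hy
    rw [← conj_zpow]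
    exact zpow_mem h i
  · intro hy
    have hy' : g * y * g⁻¹ ∈ Subgroup.zpowers (g * x * g⁻¹) := by rw [heq]; exact hy
    obtain ⟨i, hi⟩ := Subgroup.mem_zpowers_iff.mp hy'
    rw [conj_zpow] at hi
    have h2 : x ^ i = y := mul_left_cancel (mul_right_cancel hi)
    rw [← h2]
    exact zpow_mem (Subgroup.mem_zpowers x) i

/-- Membership in the centralizer of a cyclic subgroup. -/
theorem mem_centralizer_zpowers {G : Type u} [Group G] (x c : G) :
    c ∈ Subgroup.centralizer ((Subgroup.zpowers x : Subgroup G) : Set G) ↔ c * x = x * c := by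
  rw [Subgroup.mem_centralizer_iff]
  constructor
  · intro h
    exact (h x (Subgroup.mem_zpowers x)).symm
  · intro h y hy
    obtain ⟨i, rfl⟩ := Subgroup.mem_zpowers_iff.mp hy
    have h1 : Commute x c := h.symm
    exact (h1.zpow_left i).eq

end Cfsg.Agent.Lib.Helper21.NormalSylowTwo
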