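import Mathlib
import Cfsg.Agent.Lib.Helper21.PiTools
import Cfsg.Agent.Lib.Helper21.Compl
import Cfsg.Agent.Lib.Helper10.SZ

set_option autoImplicit false

/-! `π`-closed groups: the extension step (`π'`-homogeneity). -/

namespace Cfsg.Agent.Lib.Helper21.PiClosed

open Cfsg.Agent.Lib.Helper21.PiTools Cfsg.Agent.Lib.Helper21.Compl
open scoped Pointwise

variable {G : Type*} [Group G]

/-- Elementwise `π'`-homogeneity: `π`-elements normalizing a `π'`-subgroup centralize it. -/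
def HomE (π : Set ℕ) (G : Type*) [Group G] : Prop :=
  ∀ Q : Subgroup G, (∀ x ∈ Q, IsPi πᶜ x) → ∀ y : G, y ∈ Subgroup.normalizer (Q : Set G) →
    IsPi π y → ∀ x ∈ Q, y * x = x * y

theorem card_map_of_injOn {H : Type*} [Group H] (f : G →* H) (Q : Subgroup G)
    (h : ∀ a ∈ Q, f a = 1 → a = 1) : Nat.card (Q.map f) = Nat.card Q := by
  symm
  apply Nat.card_congr
  refine Equiv.ofBijective
    (fun a : Q => (⟨f a, Subgroup.mem_map_of_mem f a.2⟩ : Q.map f)) ⟨?_, ?_⟩
  · intro a b hab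
    have h1 : f a.1 = f b.1 := congrArg Subtype.val hab
    have h2 : f (a.1⁻¹ * b.1) = 1 := by rw [map_mul, map_inv, h1, inv_mul_cancel]
    have h3 := h _ (Q.mul_mem (Q.inv_mem a.2) b.2) h2
    exact Subtype.ext (inv_mul_eq_one.mp h3)
  · rintro ⟨_, a, ha, rfl⟩
    exact ⟨⟨a, ha⟩, rfl⟩

theorem relIndex_sup_zpowers [Finite G] (K : Subgroup G) [K.Normal] (x : G)
    (hd : K ⊓ Subgroup.zpowers x = ⊥) :
    K.relIndex (K ⊔ Subgroup.zpowers x) = Nat.card (Subgroup.zpowers x) := by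
  rw [sup_comm, Subgroup.relIndex_sup_right, ← Subgroup.inf_relIndex_right, hd,
    Subgroup.relIndex_bot_left]

/-- Two `π`-elements in the same coset of a normal `π'`-subgroup generate conjugate cyclic
subgroups (Schur–Zassenhaus). -/
theorem conj_zpowers_of_coset [Finite G] (π : Set ℕ) (K : Subgroup G) [K.Normal]
    (hK : ∀ k ∈ K, IsPi πᶜ k) (x u : G) (hx : IsPi π x) (hu : IsPi π u) (hux : x⁻¹ * u ∈ K) :
    ∃ e : G, MulAut.conj e • Subgroup.zpowers u = Subgroup.zpowers x := by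
  have hdisj : ∀ w : G, IsPi π w → K ⊓ Subgroup.zpowers w = ⊥ := by
    intro w hw
    rw [eq_bot_iff]
    intro a ha
    rw [Subgroup.mem_bot]
    exact (hw.of_mem_zpowers ha.2).eq_one (hK a ha.1)
  set E : Subgroup G := K ⊔ Subgroup.zpowers x with hE
  have hxE : Subgroup.zpowers x ≤ E := le_sup_right
  have hKE : K ≤ E := le_sup_left
  have huE' : u ∈ E := by
    have h1 : u = x * (x⁻¹ * u) := by rw [mul_inv_cancel_left]
    rw [h1]
    exact E.mul_mem (hxE (Subgroup.mem_zpowers x)) (hKE hux)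
  have huE : Subgroup.zpowers u ≤ E := Subgroup.zpowers_le.mpr huE'
  have hE2 : E = K ⊔ Subgroup.zpowers u := by
    apply le_antisymm
    · rw [hE]
      apply sup_le le_sup_left
      rw [Subgroup.zpowers_le]
      have h1 : x = u * (x⁻¹ * u)⁻¹ := by group
      rw [h1]
      exact Subgroup.mul_mem _ (Subgroup.mem_sup_right (Subgroup.mem_zpowers u))
        (Subgroup.mem_sup_left (K.inv_mem hux))
    · exact sup_le hKE huE
  have hrelx : K.relIndex E = Nat.card (Subgroup.zpowers x) :=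
    relIndex_sup_zpowers K x (hdisj x hx)
  have hrelu : K.relIndex E = Nat.card (Subgroup.zpowers u) := by
    rw [hE2]
    exact relIndex_sup_zpowers K u (hdisj u hu)
  have hNEcard : Nat.card (K.subgroupOf E) = Nat.card K :=
    Nat.card_congr (Subgroup.subgroupOfEquivOfLe hKE).toEquiv
  have hcop : (Nat.card (K.subgroupOf E)).Coprime (K.subgroupOf E).index := by
    rw [hNEcard]
    show (Nat.card K).Coprime (K.relIndex E)
    rw [hrelx, Nat.card_zpowers]
    exact (IsPiNum.coprime hx (isPiNum_card_subgroup K hK)).symm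
  have hH : Nat.card ((Subgroup.zpowers u).subgroupOf E) = (K.subgroupOf E).index := by
    rw [Nat.card_congr (Subgroup.subgroupOfEquivOfLe huE).toEquiv]
    exact hrelu.symm
  have hK' : Nat.card ((Subgroup.zpowers x).subgroupOf E) = (K.subgroupOf E).index := by
    rw [Nat.card_congr (Subgroup.subgroupOfEquivOfLe hxE).toEquiv]
    exact hrelx.symm
  have hsolv : Group.IsSolvable ((Subgroup.zpowers u).subgroupOf E) := by
    apply Group.isSolvable_of_comm
    intro a b
    apply Subtype.ext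
    apply Subtype.ext
    have ha : (a.1.1 : G) ∈ Subgroup.zpowers u := a.2
    have hb : (b.1.1 : G) ∈ Subgroup.zpowers u := b.2
    obtain ⟨i, hi⟩ := Subgroup.mem_zpowers_iff.mp ha
    obtain ⟨j, hj⟩ := Subgroup.mem_zpowers_iff.mp hb
    show (a.1.1 : G) * b.1.1 = b.1.1 * a.1.1
    rw [← hi, ← hj]
    exact ((Commute.refl u).zpow_zpow i j).eq
  obtain ⟨g, hg⟩ := Cfsg.Agent.Lib.Helper10.SZ.conj_aux (Nat.card E) E rfl (K.subgroupOf E) hcop
    ((Subgroup.zpowers u).subgroupOf E) ((Subgroup.zpowers x).subgroupOf E) hH hK' (Or.inr hsolv)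
  have hg' := congrArg (Subgroup.map E.subtype) hg
  rw [Cfsg.Agent.Lib.Helper10.SZ.map_conj_smul, Subgroup.map_subgroupOf_eq_of_le huE,
    Subgroup.map_subgroupOf_eq_of_le hxE] at hg'
  exact ⟨_, hg'⟩

/-- Step (A): under `π'`-homogeneity, if the `π`-elements of the normal subgroup `K` form the
subgroup `L`, every `π`-element of `G` centralizes `K / L`. -/
theorem centralizes_quot [Finite G] (π : Set ℕ) (hhom : HomE π G) (K : Subgroup G) [K.Normal]
    (L : Subgroup G) [L.Normal] (hL : ∀ x ∈ K, x ∈ L ↔ IsPi π x)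
    (x : G) (hx : IsPi π x) : ∀ k ∈ K,
      (QuotientGroup.mk' L) x * (QuotientGroup.mk' L) k =
        (QuotientGroup.mk' L) k * (QuotientGroup.mk' L) x := by
  obtain ⟨φ, hφ⟩ : ∃ φ : G →* G ⧸ L, φ = QuotientGroup.mk' L := ⟨_, rfl⟩
  rw [← hφ]
  have hφsurj : Function.Surjective φ := hφ ▸ QuotientGroup.mk'_surjective L
  have hφone : ∀ a : G, φ a = 1 ↔ a ∈ L := by
    intro a
    rw [hφ]
    exact QuotientGroup.eq_one_iff a
  set Kb : Subgroup (G ⧸ L) := K.map φ with hKb
  have hKbn : Kb.Normal := Subgroup.Normal.map inferInstance φ hφsurj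
  have hKbpi : ∀ κ ∈ Kb, IsPi πᶜ κ := by
    rintro _ ⟨k, hk, rfl⟩
    obtain ⟨a, b, ha, hb, hab, hpa, hpb⟩ := pi_decomp π k
    have haK : a ∈ K := (Subgroup.zpowers_le.mpr hk) ha
    have haL : a ∈ L := (hL a haK).mpr hpa
    have h1 : φ k = φ b := by
      rw [hab, map_mul, (hφone a).mpr haL, one_mul]
    rw [h1]
    exact hpb.map φ
  obtain ⟨xb, hxbdef⟩ : ∃ xb, xb = φ x := ⟨_, rfl⟩
  rw [← hxbdef]
  have hxb : IsPi π xb := hxbdef ▸ hx.map φ
  set C : Subgroup (G ⧸ L) := Kb ⊓ Subgroup.centralizer {xb} with hC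
  have hCK : C = Kb := by
    apply eq_of_prime_pow_dvd inf_le_left
    intro q k hq hqk
    by_cases hqπ : q ∈ π
    · have hKbnum : IsPiNum πᶜ (Nat.card Kb) := isPiNum_card_subgroup Kb hKbpi
      have hk0 : k = 0 := by
        by_contra hk0
        exact hKbnum q hq ((dvd_pow_self q hk0).trans hqk) hqπ
      rw [hk0, pow_zero]
      exact one_dvd _
    · have : Fact q.Prime := ⟨hq⟩
      obtain ⟨P₀⟩ : Nonempty (Sylow q K) := inferInstance
      set Q : Subgroup G := (P₀ : Subgroup K).map K.subtype with hQ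
      have hQcard : Nat.card Q = q ^ (Nat.card K).factorization q := by
        rw [hQ, Subgroup.card_map_of_injective (Subgroup.subtype_injective _),
          P₀.card_eq_multiplicity]
      have hQK : Q ≤ K := by
        rintro _ ⟨u, -, rfl⟩
        exact u.2
      have hQpi : ∀ a ∈ Q, IsPi πᶜ a := by
        intro a ha
        apply IsPi.of_card Q _ ha
        rw [hQcard]
        intro r hr hrd
        have h1 := (Nat.prime_dvd_prime_iff_eq hr hq).mp (hr.dvd_of_dvd_pow hrd)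
        rw [h1]
        exact hqπ
      have hfr : Subgroup.normalizer (Q : Set G) ⊔ K = ⊤ := Sylow.normalizer_sup_eq_top P₀
      have hxmem : x ∈ Subgroup.normalizer (Q : Set G) ⊔ K := hfr ▸ Subgroup.mem_top x
      obtain ⟨y, hy, k₀, hk₀, hyk⟩ := Subgroup.mem_sup_of_normal_right.mp hxmem
      obtain ⟨u, v, hu, hv, huv, hpu, hpv⟩ := pi_decomp π y
      have huN : u ∈ Subgroup.normalizer (Q : Set G) := (Subgroup.zpowers_le.mpr hy) hu
      have hucent : ∀ a ∈ Q, u * a = a * u := hhom Q hQpi u huN hpu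
      have hvK : v ∈ K := by
        have h1 : (QuotientGroup.mk' K) y = (QuotientGroup.mk' K) x := by
          rw [← hyk, map_mul]
          have h0 : (QuotientGroup.mk' K) k₀ = 1 := (QuotientGroup.eq_one_iff k₀).mpr hk₀
          rw [h0, mul_one]
        have h2 : IsPi π ((QuotientGroup.mk' K) v) := by
          have h3 : (QuotientGroup.mk' K) v ∈ Subgroup.zpowers ((QuotientGroup.mk' K) y) := by
            obtain ⟨i, hi⟩ := Subgroup.mem_zpowers_iff.mp hv
            rw [← hi, map_zpow]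
            exact Subgroup.zpow_mem_zpowers _ i
          rw [h1] at h3
          exact (hx.map _).of_mem_zpowers h3
        have h4 : IsPi πᶜ ((QuotientGroup.mk' K) v) := hpv.map _
        exact (QuotientGroup.eq_one_iff v).mp (h2.eq_one h4)
      have hxu : x⁻¹ * u ∈ K := by
        have h1 : x⁻¹ * u = k₀⁻¹ * v⁻¹ := by
          rw [← hyk, huv]
          group
        rw [h1]
        exact K.mul_mem (K.inv_mem hk₀) (K.inv_mem hvK)
      obtain ⟨ub, hubdef⟩ : ∃ ub, ub = φ u := ⟨_, rfl⟩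
      have hub : IsPi π ub := hubdef ▸ hpu.map φ
      have hxub : xb⁻¹ * ub ∈ Kb := ⟨x⁻¹ * u, hxu, by rw [map_mul, map_inv, hxbdef, hubdef]⟩
      obtain ⟨ε, hε⟩ := conj_zpowers_of_coset π Kb hKbpi xb ub hxb hub hxub
      have h1 : ε⁻¹ * xb * ε ∈ Subgroup.zpowers ub := by
        rw [← mem_conj_smul, hε]
        exact Subgroup.mem_zpowers xb
      set Qb : Subgroup (G ⧸ L) := Q.map φ with hQb
      have hubQ : ∀ a ∈ Qb, ub * a = a * ub := by
        rintro _ ⟨a, ha, rfl⟩
        rw [hubdef, ← map_mul, ← map_mul, hucent a ha]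
      have hzQ : ∀ w ∈ Subgroup.zpowers ub, ∀ a ∈ Qb, w * a = a * w := by
        intro w hw a ha
        obtain ⟨i, hi⟩ := Subgroup.mem_zpowers_iff.mp hw
        rw [← hi]
        exact ((show Commute ub a from hubQ a ha).zpow_left i).eq
      set Qb' : Subgroup (G ⧸ L) := Qb.map (MulAut.conj ε).toMonoidHom with hQb'
      have hQb'C : Qb' ≤ C := by
        rintro _ ⟨a, ha, rfl⟩
        have haKb : a ∈ Kb := by
          obtain ⟨a₀, ha₀, rfl⟩ := ha
          exact Subgroup.mem_map_of_mem φ (hQK ha₀)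
        refine ⟨hKbn.conj_mem a haKb ε, ?_⟩
        show ε * a * ε⁻¹ ∈ Subgroup.centralizer {xb}
        rw [Subgroup.mem_centralizer_singleton_iff]
        have h2 := hzQ _ h1 a ha
        calc ε * a * ε⁻¹ * xb = ε * (a * (ε⁻¹ * xb * ε)) * ε⁻¹ := by group
          _ = ε * ((ε⁻¹ * xb * ε) * a) * ε⁻¹ := by rw [h2]
          _ = xb * (ε * a * ε⁻¹) := by group
      have hQbcard : Nat.card Qb = Nat.card Q := card_map_of_injOn φ Q (by
        intro a ha h1
        have haL : a ∈ L := (hφone a).mp h1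
        exact ((hL a (hQK ha)).mp haL).eq_one (hQpi a ha))
      have hQb'card : Nat.card Qb' = Nat.card Q := by
        rw [hQb', Subgroup.card_map_of_injective (MulAut.conj ε).injective, hQbcard]
      have h3 : q ^ k ∣ Nat.card K := hqk.trans (Subgroup.card_map_dvd K φ)
      have h4 : k ≤ (Nat.card K).factorization q :=
        (hq.pow_dvd_iff_le_factorization Nat.card_pos.ne').mp h3
      calc q ^ k ∣ q ^ (Nat.card K).factorization q := pow_dvd_pow q h4
        _ = Nat.card Qb' := by rw [hQb'card, hQcard]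
        _ ∣ Nat.card C := Subgroup.card_dvd_of_le hQb'C
  intro k hk
  have h1 : φ k ∈ C := hCK ▸ Subgroup.mem_map_of_mem φ hk
  have h2 := Subgroup.mem_centralizer_singleton_iff.mp h1.2
  exact h2.symm

/-- The image of `K` in `G / L` consists of `π'`-elements when `L` is the set of `π`-elements
of `K`. -/
theorem quot_pi' [Finite G] (π : Set ℕ) (K : Subgroup G)
    (L : Subgroup G) [L.Normal] (hL : ∀ x ∈ K, x ∈ L ↔ IsPi π x) :
    ∀ κ ∈ K.map (QuotientGroup.mk' L), IsPi πᶜ κ := by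
  rintro _ ⟨k, hk, rfl⟩
  obtain ⟨a, b, ha, hb, hab, hpa, hpb⟩ := pi_decomp π k
  have haK : a ∈ K := (Subgroup.zpowers_le.mpr hk) ha
  have haL : a ∈ L := (hL a haK).mpr hpa
  have h0 : (QuotientGroup.mk' L) a = 1 := (QuotientGroup.eq_one_iff a).mpr haL
  have h1 : (QuotientGroup.mk' L) k = (QuotientGroup.mk' L) b := by
    rw [hab, map_mul, h0, one_mul]
  rw [h1]
  exact hpb.map _

/-- The extension step: if the `π`-elements of the normal subgroup `K` and of `G / K` form
subgroups, and `G` is `π'`-homogeneous, then the `π`-elements of `G` form a subgroup. -/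
theorem core [Finite G] (π : Set ℕ) (hhom : HomE π G) (K : Subgroup G) [hKn : K.Normal]
    (L : Subgroup G) (hLK : L ≤ K) (hL : ∀ x ∈ K, x ∈ L ↔ IsPi π x)
    (LQ : Subgroup (G ⧸ K)) (hLQ : ∀ x : G ⧸ K, x ∈ LQ ↔ IsPi π x) :
    ∃ T : Subgroup G, ∀ x : G, x ∈ T ↔ IsPi π x := by
  have hLn : L.Normal := by
    constructor
    intro a ha g
    have haK := hLK ha
    have hgK : g * a * g⁻¹ ∈ K := hKn.conj_mem a haK g
    exact (hL _ hgK).mpr (((hL a haK).mp ha).conj g)
  obtain ⟨φ, hφ⟩ : ∃ φ : G →* G ⧸ L, φ = QuotientGroup.mk' L := ⟨_, rfl⟩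
  have hφone : ∀ a : G, φ a = 1 ↔ a ∈ L := by
    intro a
    rw [hφ]
    exact QuotientGroup.eq_one_iff a
  have hcent : ∀ x, IsPi π x → ∀ k ∈ K, φ x * φ k = φ k * φ x := by
    intro x hx k hk
    rw [hφ]
    exact centralizes_quot π hhom K L hL x hx k hk
  set Kb : Subgroup (G ⧸ L) := K.map φ with hKb
  have hKbpi : ∀ κ ∈ Kb, IsPi πᶜ κ := by
    rw [hKb, hφ]
    exact quot_pi' π K L hL
  set M : Subgroup G := LQ.comap (QuotientGroup.mk' K) with hM
  set D : Subgroup G := (Subgroup.centralizer (Kb : Set (G ⧸ L))).comap φ with hD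
  set W : Subgroup G := M ⊓ D with hW
  have hpiW : ∀ x, IsPi π x → x ∈ W := by
    intro x hx
    refine ⟨(hLQ _).mpr (hx.map _), ?_⟩
    show φ x ∈ Subgroup.centralizer (Kb : Set (G ⧸ L))
    rw [Subgroup.mem_centralizer_iff]
    rintro _ ⟨k, hk, rfl⟩
    exact (hcent x hx k hk).symm
  set Wb : Subgroup (G ⧸ L) := W.map φ with hWb
  set Zb : Subgroup (G ⧸ L) := Wb ⊓ Kb with hZb
  have hZcent : ∀ z ∈ Zb, ∀ w ∈ Wb, w * z = z * w := by
    rintro z hz _ ⟨w, hw, rfl⟩
    have h1 : φ w ∈ Subgroup.centralizer (Kb : Set (G ⧸ L)) := hw.2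
    exact ((Subgroup.mem_centralizer_iff.mp h1) z hz.2).symm
  obtain ⟨Zq, hZq⟩ : ∃ Zq : Subgroup Wb, Zq = Zb.subgroupOf Wb := ⟨_, rfl⟩
  have hmemZq : ∀ z : Wb, z ∈ Zq ↔ (z : G ⧸ L) ∈ Zb := by
    intro z
    rw [hZq, Subgroup.mem_subgroupOf]
  have hZqn : Zq.Normal := by
    constructor
    intro z hz w
    have h1 : (w * z * w⁻¹ : Wb) = z := by
      apply Subtype.ext
      show (w : G ⧸ L) * z * (w : G ⧸ L)⁻¹ = z
      rw [hZcent z ((hmemZq z).mp hz) w w.2, mul_inv_cancel_right]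
    rw [h1]
    exact hz
  have hZqpi' : ∀ z : Wb, z ∈ Zq → IsPi πᶜ z := by
    intro z hz
    have h1 : IsPi πᶜ (z : G ⧸ L) := hKbpi _ ((hmemZq z).mp hz).2
    exact h1.of_orderOf_dvd (dvd_of_eq (Subgroup.orderOf_coe z).symm)
  have hZqpi : IsPiNum πᶜ (Nat.card Zq) := isPiNum_card_subgroup Zq hZqpi'
  have hZqidx : IsPiNum π Zq.index := by
    rw [Subgroup.index_eq_card]
    apply isPiNum_card
    intro qb
    obtain ⟨w, rfl⟩ := QuotientGroup.mk_surjective qb
    obtain ⟨w', hw', hww'⟩ := w.2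
    have hm : IsPi π ((QuotientGroup.mk' K) w') := (hLQ _).mp hw'.1
    obtain ⟨m, hmdef⟩ : ∃ m, m = orderOf ((QuotientGroup.mk' K) w') := ⟨_, rfl⟩
    have h1 : w' ^ m ∈ K := by
      have h0 : (QuotientGroup.mk' K) (w' ^ m) = 1 := by
        rw [map_pow, hmdef, pow_orderOf_eq_one]
      exact (QuotientGroup.eq_one_iff _).mp h0
    have h2 : w ^ m ∈ Zq := by
      rw [hmemZq]
      refine ⟨(w ^ m).2, ?_⟩
      rw [Subgroup.coe_pow, ← hww', ← map_pow]
      exact Subgroup.mem_map_of_mem φ h1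
    have h3 : ((w : Wb) : Wb ⧸ Zq) ^ m = 1 := by
      rw [← QuotientGroup.mk_pow]
      exact (QuotientGroup.eq_one_iff _).mpr h2
    exact IsPi.of_pow_eq_one (hmdef ▸ hm) h3
  have hcop : (Nat.card Zq).Coprime Zq.index := (IsPiNum.coprime hZqidx hZqpi).symm
  obtain ⟨Hq, hHq⟩ := Subgroup.exists_right_complement'_of_coprime hcop
  have hHqcard : Zq.index = Nat.card Hq := hHq.symm.index_eq_card
  obtain ⟨n, hn⟩ : ∃ n, n = Nat.card Hq := ⟨_, rfl⟩
  have hnpi : IsPiNum π n := by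
    rw [hn, ← hHqcard]
    exact hZqidx
  have hLpi : IsPiNum π (Nat.card L) :=
    isPiNum_card_subgroup L (fun a ha => (hL a (hLK ha)).mp ha)
  have hHpow : ∀ h : Wb, h ∈ Hq → h ^ n = 1 := by
    intro h hh
    have h1 := pow_card_eq_one' (G := Hq) (x := ⟨h, hh⟩)
    rw [← hn] at h1
    exact congrArg Subtype.val h1
  refine ⟨(Hq.map Wb.subtype).comap φ, ?_⟩
  intro x
  constructor
  · rintro ⟨h, hh, hhx⟩
    have h1 : h ^ n = 1 := hHpow h hh
    have h2 : φ (x ^ n) = 1 := by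
      rw [map_pow, ← hhx]
      have h0 := congrArg Subtype.val h1
      simpa using h0
    have h3 : x ^ n ∈ L := (hφone _).mp h2
    have h4 : (x ^ n) ^ Nat.card L = 1 := by
      have h0 := pow_card_eq_one' (G := L) (x := ⟨x ^ n, h3⟩)
      exact congrArg Subtype.val h0
    rw [← pow_mul] at h4
    exact IsPi.of_pow_eq_one (hnpi.mul hLpi) h4
  · intro hx
    have hxW := hpiW x hx
    obtain ⟨wq, hwq⟩ : ∃ wq : Wb, wq = ⟨φ x, Subgroup.mem_map_of_mem φ hxW⟩ := ⟨_, rfl⟩
    obtain ⟨⟨z, h⟩, hzh⟩ := hHq.2 wq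
    have hzh' : (z : Wb) * (h : Wb) = wq := hzh
    have hzc : Commute (z : Wb) (h : Wb) := by
      apply Subtype.ext
      exact (hZcent _ ((hmemZq _).mp z.2) _ (h : Wb).2).symm
    have hhn : (h : Wb) ^ n = 1 := hHpow _ h.2
    have h1 : wq ^ n = (z : Wb) ^ n := by
      rw [← hzh', hzc.mul_pow, hhn, mul_one]
    have hwqpi : IsPi π wq := by
      apply hx.of_orderOf_dvd
      rw [← Subgroup.orderOf_coe, hwq]
      exact orderOf_map_dvd φ x
    have hzpi : IsPi πᶜ (z : Wb) := hZqpi' _ z.2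
    have hznpi : IsPi π ((z : Wb) ^ n) := h1 ▸ hwqpi.pow n
    have hzn1 : (z : Wb) ^ n = 1 := hznpi.eq_one (hzpi.pow n)
    have hz1 : (z : Wb) = 1 := by
      have h2 : orderOf (z : Wb) ∣ n := orderOf_dvd_of_pow_eq_one hzn1
      have h3 : IsPiNum π (orderOf (z : Wb)) := hnpi.of_dvd h2
      exact orderOf_eq_one_iff.mp (IsPiNum.eq_one h3 hzpi)
    have h4 : wq = (h : Wb) := by rw [← hzh', hz1, one_mul]
    show φ x ∈ Hq.map Wb.subtype
    refine ⟨(h : Wb), h.2, ?_⟩
    rw [← h4, hwq]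
    rfl

/-- The index form of `π'`-homogeneity implies the elementwise form. -/
theorem homE_of_hhom [Finite G] (π : Set ℕ)
    (hhom : ∀ H : Subgroup G, H ≠ ⊥ → (∀ p : ℕ, p.Prime → p ∣ Nat.card ↥H → p ∉ π) →
      ∀ p : ℕ, p.Prime → p ∣ (Subgroup.centralizer (H : Set G)).relIndex
        (Subgroup.normalizer (H : Set G)) → p ∉ π) : HomE π G := by
  intro Q hQ y hy hpy x hx
  by_cases hQb : Q = ⊥
  · subst hQb
    rw [Subgroup.mem_bot] at hx
    subst hx
    rw [mul_one, one_mul]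
  have hQnum : IsPiNum πᶜ (Nat.card Q) := isPiNum_card_subgroup Q hQ
  have h1 : IsPiNum πᶜ ((Subgroup.centralizer (Q : Set G)).relIndex
      (Subgroup.normalizer (Q : Set G))) := hhom Q hQb hQnum
  have hCn : ((Subgroup.centralizer (Q : Set G)).subgroupOf
      (Subgroup.normalizer (Q : Set G))).Normal := by
    rw [← Subgroup.normalizerMonoidHom_ker]
    exact MonoidHom.normal_ker _
  have h2 := Subgroup.pow_index_mem ((Subgroup.centralizer (Q : Set G)).subgroupOf
      (Subgroup.normalizer (Q : Set G))) (⟨y, hy⟩ : Subgroup.normalizer (Q : Set G))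
  have h3 : y ^ ((Subgroup.centralizer (Q : Set G)).relIndex
      (Subgroup.normalizer (Q : Set G))) ∈ Subgroup.centralizer (Q : Set G) := h2
  have h4 : y ∈ Subgroup.centralizer (Q : Set G) :=
    mem_of_pow_mem _ y _ h3 (IsPiNum.coprime hpy h1).symm
  exact ((Subgroup.mem_centralizer_iff.mp h4) x hx).symm

end Cfsg.Agent.Lib.Helper21.PiClosed
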